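import Groth.Agent.Lib.CIPres.Basic
import Groth.Agent.Lib.Excellent.FiniteCompletion
import Groth.Prelude.Def_Pi1
import Mathlib.RingTheory.Regular.Flat
import Mathlib.RingTheory.TensorProduct.Quotient

/-!
# Complete intersections among quotients of regular local rings
-/

set_option autoImplicit false

universe u

open IsLocalRing RingTheory.Sequence TensorProduct

namespace GrothLib.CIPres

variable {R : Type u} [CommRing R] [IsLocalRing R] [IsNoetherianRing R]

/-- The completion of a quotient is the quotient of the completion. -/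
theorem nonempty_completion_quotient (I : Ideal R) [IsLocalRing (R ⧸ I)] :
    Nonempty (AdicCompletion (maximalIdeal (R ⧸ I)) (R ⧸ I) ≃+*
      AdicCompletion (maximalIdeal R) R ⧸ I.map (algebraMap R (AdicCompletion (maximalIdeal R) R))) := by
  obtain ⟨e⟩ := GrothLib.Excellent.exists_jacobson_completion_equiv R (R ⧸ I)
  rw [IsLocalRing.jacobson_eq_maximalIdeal _ bot_ne_top] at e
  exact ⟨e.symm.trans ((Algebra.TensorProduct.comm R (R ⧸ I) (EGA4.Cpl R)).toRingEquiv.trans
    (Algebra.TensorProduct.quotIdealMapEquivTensorQuot (EGA4.Cpl R) I).symm.toRingEquiv)⟩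

/-- The number of generators does not drop on completion. -/
theorem spanFinrank_le_map_completion (I : Ideal R) :
    I.spanFinrank ≤ (I.map (algebraMap R (AdicCompletion (maximalIdeal R) R))).spanFinrank := by
  let Q := AdicCompletion (maximalIdeal R) R
  haveI : Module.FaithfullyFlat R Q := Module.FaithfullyFlat.of_flat_of_isLocalHom
  obtain ⟨g, hg⟩ := exists_generators I
  refine indep_le_spanFinrank (fun i => algebraMap R Q (g i))
    (fun i => Ideal.mem_map_of_mem _ (hg ▸ Ideal.subset_span ⟨i, rfl⟩)) fun c hc i => ?_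
  have hres : ∀ j, ∃ a : R, c j - algebraMap R Q a ∈ maximalIdeal Q := fun j => by
    obtain ⟨a, ha⟩ := (GrothLib.ComplAlg.isFormalCompl_adicCompletion (maximalIdeal R)).surj 1 (c j)
    rw [pow_one, ← AdicCompletion.maximalIdeal_eq_map] at ha
    exact ⟨a, ha⟩
  choose a ha using hres
  have h1 : algebraMap R Q (∑ j, a j * g j) ∈ (maximalIdeal R * I).map (algebraMap R Q) := by
    rw [Ideal.map_mul, ← AdicCompletion.maximalIdeal_eq_map, map_sum]
    have : ∑ j, algebraMap R Q (a j * g j) =
        ∑ j, c j * algebraMap R Q (g j) - ∑ j, (c j - algebraMap R Q (a j)) * algebraMap R Q (g j) := by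
      simp [sub_mul, Finset.sum_sub_distrib]
    rw [this]
    exact sub_mem hc (Ideal.sum_mem _ fun j _ =>
      Ideal.mul_mem_mul (ha j) (Ideal.mem_map_of_mem _ (hg ▸ Ideal.subset_span ⟨j, rfl⟩)))
  rw [← Ideal.mem_comap, Ideal.comap_map_eq_self_of_faithfullyFlat] at h1
  have h2 := indep_of_span g hg (by simp) a h1 i
  have : c i = (c i - algebraMap R Q (a i)) + algebraMap R Q (a i) := by ring
  rw [this]
  refine add_mem (ha i) ?_
  rw [AdicCompletion.maximalIdeal_eq_map]
  exact Ideal.mem_map_of_mem _ h2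

/-- A quotient by a regular sequence of a regular local ring is a complete intersection, and conversely. -/
theorem isCompleteIntersection_quotient_iff {S : Type u} [CommRing S] [IsRegularLocalRing S] (I : Ideal S)
    (hI : I ≠ ⊤) [IsLocalRing (S ⧸ I)] :
    Pi1.IsCompleteIntersection (S ⧸ I) ↔ ∃ rs : List S, Ideal.ofList rs = I ∧ IsRegular S rs := by
  let Q := AdicCompletion (maximalIdeal S) S
  haveI : IsRegularLocalRing Q := GrothLib.AdicExtra.isRegularLocalRing_adicCompletion_iff.mp ‹_›
  haveI : Module.FaithfullyFlat S Q := Module.FaithfullyFlat.of_flat_of_isLocalHom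
  obtain ⟨e⟩ := nonempty_completion_quotient I
  constructor
  · rintro ⟨B, _, _, rs, -, hrs, ⟨f⟩⟩
    let A := AdicCompletion (maximalIdeal (S ⧸ I)) (S ⧸ I)
    let ψ : B →+* A := f.symm.toRingHom.comp (Ideal.Quotient.mk _)
    let φ : Q →+* A := e.symm.toRingHom.comp (Ideal.Quotient.mk _)
    have hψ : Function.Surjective ψ := f.symm.surjective.comp Ideal.Quotient.mk_surjective
    have hφ : Function.Surjective φ := e.symm.surjective.comp Ideal.Quotient.mk_surjective
    have hkψ : Ideal.ofList rs = RingHom.ker ψ := by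
      rw [RingHom.ker_comp_of_injective _ f.symm.injective, Ideal.mk_ker]
    have hkφ : RingHom.ker φ = I.map (algebraMap S Q) := by
      rw [RingHom.ker_comp_of_injective _ e.symm.injective, Ideal.mk_ker]
    obtain ⟨rs', h', hreg'⟩ := exists_isRegular_ker φ hφ ψ hψ ⟨rs, hkψ, hrs⟩
    rw [hkφ] at h'
    have hIQ : I.map (algebraMap S Q) ≠ ⊤ := hkφ ▸ RingHom.ker_ne_top φ
    have hcrit := (regular_iff_spanFinrank_le _ hIQ).mp ⟨rs', h', hreg'⟩
    refine (regular_iff_spanFinrank_le I hI).mpr ?_
    rw [← ringKrullDim_eq_of_ringEquiv e, GrothLib.AdicExtra.ringKrullDim_adicCompletion,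
      GrothLib.AdicExtra.ringKrullDim_adicCompletion] at hcrit
    refine le_trans (add_le_add ?_ le_rfl) hcrit
    exact_mod_cast spanFinrank_le_map_completion I
  · rintro ⟨rs, rfl, hrs⟩
    have hspan : Ideal.span {r | r ∈ rs.map (algebraMap S Q)} = (Ideal.ofList rs).map (algebraMap S Q) := by
      rw [Ideal.map_ofList]
    have hle : (Ideal.ofList rs).map (algebraMap S Q) ≤ maximalIdeal Q := by
      rw [AdicCompletion.maximalIdeal_eq_map]
      exact Ideal.map_mono (le_maximalIdeal hI)
    refine ⟨Q, inferInstance, inferInstance, rs.map (algebraMap S Q), fun r hr => hle (hspan ▸ Ideal.subset_span hr),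
      ⟨hrs.toIsWeaklyRegular.of_flat, ?_⟩, ⟨e.trans (Ideal.quotEquivOfEq hspan.symm)⟩⟩
    intro htop
    refine (maximalIdeal.isMaximal Q).ne_top (eq_top_iff.mpr (le_trans ?_ hle))
    rw [Ideal.map_ofList, htop]
    exact (le_of_eq (by simp [Ideal.mul_top]))

end GrothLib.CIPres
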