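import Groth.Agent.Lib.CIPres.Avramov
import Groth.Agent.Lib.DepthFlat.Basic
import Groth.Agent.Lib.NLAmp.Fibre
import Groth.Prelude.Def_RegImm

/-!
# Transversally regular sequences and the closed fibre
-/

set_option autoImplicit false
set_option linter.style.haveILetI false
universe u

open IsLocalRing RingTheory.Sequence

namespace GrothLib.CIPres

variable {A C : Type u} [CommRing A] [IsLocalRing A] [CommRing C] [IsLocalRing C] [IsNoetherianRing A]
  [IsNoetherianRing C] [Algebra A C] [IsLocalHom (algebraMap A C)]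

/-- A sequence regular on the closed fibre of a flat module is regular with flat quotients. -/
theorem regular_and_flat_of_fib : ∀ (rs : List C) (N : Type u) [AddCommGroup N] [Module C N] [Module A N]
    [IsScalarTower A C N] [Module.Finite C N] [Module.Flat A N], IsWeaklyRegular (DepthFlat.Fib A C N) rs →
      IsWeaklyRegular N rs ∧
        ∀ j ≤ rs.length, Module.Flat A (N ⧸ Ideal.ofList (rs.take j) • (⊤ : Submodule C N)) := by
  intro rs
  induction rs with
  | nil =>
    intro N _ _ _ _ _ _ _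
    exact ⟨IsWeaklyRegular.nil C N, fun j _ => Module.Flat.of_linearEquiv
      ((Submodule.quotEquivOfEqBot _ (by simp)).restrictScalars A)⟩
  | cons f rs ih =>
    intro N _ _ _ _ _ _ h
    rw [isWeaklyRegular_cons_iff] at h
    haveI := DepthFlat.flat_quotSMulTop (R := A) (N := N) h.1
    obtain ⟨e⟩ := DepthFlat.fib_quotSMulTop_equiv (R := A) (N := N) f
    obtain ⟨h1, h2⟩ := ih (QuotSMulTop f N) ((e.isWeaklyRegular_congr rs).mpr h.2)
    refine ⟨(isWeaklyRegular_cons_iff N f rs).mpr ⟨(DepthFlat.regular_facts (R := A) (N := N) h.1).1, h1⟩, ?_⟩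
    rintro (_ | j) hj
    · exact Module.Flat.of_linearEquiv ((Submodule.quotEquivOfEqBot _ (by simp)).restrictScalars A)
    · haveI := h2 j (by simpa using hj)
      exact Module.Flat.of_linearEquiv
        ((Submodule.quotOfListConsSMulTopEquivQuotSMulTopInner N f (rs.take j)).restrictScalars A)

/-- A sequence regular on the closed fibre of a flat local algebra is transversally regular. -/
theorem isTransRegularSeq_of_fib [Module.Flat A C] (rs : List C)
    (h : IsWeaklyRegular (EGA4.FibRing A C) (rs.map (Ideal.Quotient.mk (EGA4.mB A C)))) :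
    RegImm.IsTransRegularSeq A C rs := by
  have h' : IsWeaklyRegular (EGA4.FibRing A C) rs :=
    (isWeaklyRegular_map_algebraMap_iff (R := C) (S := EGA4.FibRing A C) (EGA4.FibRing A C) rs).mp h
  let e : DepthFlat.Fib A C C ≃ₗ[C] EGA4.FibRing A C :=
    Submodule.quotEquivOfEq _ _ (by rw [smul_eq_mul, Ideal.mul_top])
  obtain ⟨h1, h2⟩ := regular_and_flat_of_fib (A := A) rs C ((e.isWeaklyRegular_congr rs).mpr h')
  refine ⟨h1, fun j hj => ?_⟩
  haveI := h2 j hj
  exact Module.Flat.of_linearEquiv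
    ((Submodule.quotEquivOfEq (Ideal.ofList (rs.take j) • (⊤ : Submodule C C)) (Ideal.ofList (rs.take j))
      (by rw [smul_eq_mul, Ideal.mul_top])).restrictScalars A).symm

omit [IsNoetherianRing A] [IsLocalRing C] [IsNoetherianRing C] [IsLocalHom (algebraMap A C)] in
/-- A transversally regular sequence stays weakly regular on the closed fibre. -/
theorem fib_regular_of_isTransRegularSeq (rs : List C) (h : RegImm.IsTransRegularSeq A C rs) :
    IsWeaklyRegular (EGA4.FibRing A C) (rs.map (Ideal.Quotient.mk (EGA4.mB A C))) := by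
  obtain ⟨hreg, hflat⟩ := h
  rw [GrothLib.RegSeqLoc.isWeaklyRegular_iff_mem] at hreg ⊢
  intro i hi x hx
  rw [List.length_map] at hi
  obtain ⟨x, rfl⟩ := Ideal.Quotient.mk_surjective x
  rw [← List.map_take, List.getElem_map, ← map_mul, ← Ideal.map_ofList, ← Ideal.mem_comap,
    Ideal.comap_map_of_surjective _ Ideal.Quotient.mk_surjective, ← RingHom.ker_eq_comap_bot, Ideal.mk_ker] at hx
  rw [← List.map_take, ← Ideal.map_ofList, ← Ideal.mem_comap,
    Ideal.comap_map_of_surjective _ Ideal.Quotient.mk_surjective, ← RingHom.ker_eq_comap_bot, Ideal.mk_ker]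
  obtain ⟨k, hk, m, hm, hkm⟩ := Submodule.mem_sup.mp hx
  set K := Ideal.ofList (rs.take i)
  have hK : Ideal.ofList (rs.take (i + 1)) = K ⊔ Ideal.span {rs[i]} := by
    rw [List.take_succ_eq_append_getElem hi, Ideal.ofList_append, Ideal.ofList_singleton]
  have hmK : m ∈ Ideal.ofList (rs.take (i + 1)) := by
    rw [hK, show m = -k + rs[i] * x by rw [← hkm]; ring]
    exact add_mem (Submodule.mem_sup_left (neg_mem hk))
      (Submodule.mem_sup_right (Ideal.mul_mem_right _ _ (Ideal.subset_span rfl)))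
  haveI := hflat (i + 1) hi
  have hmem := GrothLib.NLAmp.inf_map_le_mul (maximalIdeal A) (Ideal.ofList (rs.take (i + 1))) ⟨hm, hmK⟩
  rw [hK, Ideal.mul_sup] at hmem
  obtain ⟨k', hk', m', hm', hkm'⟩ := Submodule.mem_sup.mp hmem
  obtain ⟨n, hn, rfl⟩ := Ideal.mem_mul_span_singleton.mp hm'
  have hx1 : rs[i] * (x - n) ∈ K := by
    rw [show rs[i] * (x - n) = k + k' by rw [mul_sub, ← hkm, ← hkm']; ring]
    refine add_mem hk ?_
    exact SetLike.le_def.mp (Ideal.mul_le_right (I := (maximalIdeal A).map (algebraMap A C)) (J := K)) hk'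
  have h1 : x - n ∈ K := hreg i hi _ hx1
  have h2 := Submodule.add_mem_sup h1 hn
  rwa [sub_add_cancel] at h2

/-- Transversal regularity of the kernel of a surjection onto a flat algebra with CI fibre. -/
theorem exists_isTransRegularSeq_iff [Module.Flat A C] [IsRegularLocalRing (EGA4.FibRing A C)]
    (J : Ideal C) (hJ : J ≠ ⊤) [IsLocalRing (EGA4.FibRing A (C ⧸ J))] :
    (∃ rs : List C, Ideal.ofList rs = J ∧ RegImm.IsTransRegularSeq A C rs) ↔
      (Module.Flat A (C ⧸ J) ∧ Pi1.IsCompleteIntersection (EGA4.FibRing A (C ⧸ J))) := by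
  set M := EGA4.mB A C
  set J₀ := J.map (Ideal.Quotient.mk M)
  have hM : M ≤ maximalIdeal C := ((local_hom_TFAE (algebraMap A C)).out 0 2 rfl rfl).mp inferInstance
  have hJ₀ : J₀ ≠ ⊤ := by
    refine ne_top_of_le_ne_top (maximalIdeal.isMaximal (C ⧸ M)).ne_top ?_
    rw [← GrothLib.RegLoc.map_maximalIdeal_quotient M]
    exact Ideal.map_mono (le_maximalIdeal hJ)
  let e : (C ⧸ M) ⧸ J₀ ≃+* EGA4.FibRing A (C ⧸ J) :=
    (DoubleQuot.quotQuotEquivComm J M).symm.trans (Ideal.quotEquivOfEq (by
      rw [show M = (maximalIdeal A).map (algebraMap A C) from rfl, Ideal.map_map]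
      rfl))
  haveI : Nontrivial ((C ⧸ M) ⧸ J₀) := Ideal.Quotient.nontrivial_iff.mpr hJ₀
  haveI : IsLocalRing ((C ⧸ M) ⧸ J₀) := IsLocalRing.of_surjective' _ Ideal.Quotient.mk_surjective
  rw [← isCI_congr e, isCompleteIntersection_quotient_iff J₀ hJ₀]
  constructor
  · rintro ⟨rs, hrs, htr⟩
    have hflat := htr.2 rs.length le_rfl
    rw [List.take_length, hrs] at hflat
    refine ⟨hflat, rs.map (Ideal.Quotient.mk M), ?_, fib_regular_of_isTransRegularSeq rs htr, ?_⟩
    · rw [← Ideal.map_ofList, hrs]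
    · rw [← Ideal.map_ofList, hrs, smul_eq_mul, Ideal.mul_top]
      exact hJ₀.symm
  · rintro ⟨hflat, rs₀, hrs₀, hreg⟩
    have hlift : ∀ r ∈ rs₀, ∃ s ∈ J, Ideal.Quotient.mk M s = r := fun r hr =>
      (Ideal.mem_map_iff_of_surjective _ Ideal.Quotient.mk_surjective).mp
        (show r ∈ J₀ by rw [← hrs₀]; exact Ideal.subset_span hr)
    choose! g hgJ hg using hlift
    have hmap : (rs₀.map g).map (Ideal.Quotient.mk M) = rs₀ := by
      rw [List.map_map]
      exact (List.map_congr_left fun r hr => hg r hr).trans rs₀.map_id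
    refine ⟨rs₀.map g, le_antisymm (Ideal.span_le.mpr ?_) (le_of_le_sup fun z hz => ?_),
      isTransRegularSeq_of_fib _ (by rw [hmap]; exact hreg.toIsWeaklyRegular)⟩
    · intro s hs
      obtain ⟨r, hr, rfl⟩ := List.mem_map.mp hs
      exact hgJ r hr
    · have hle : Ideal.ofList (rs₀.map g) ≤ J := by
        refine Ideal.span_le.mpr fun s hs => ?_
        obtain ⟨r, hr, rfl⟩ := List.mem_map.mp hs
        exact hgJ r hr
      have hz' : Ideal.Quotient.mk M z ∈ (Ideal.ofList (rs₀.map g)).map (Ideal.Quotient.mk M) := by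
        rw [Ideal.map_ofList, hmap, hrs₀]
        exact Ideal.mem_map_of_mem _ hz
      rw [← Ideal.mem_comap, Ideal.comap_map_of_surjective _ Ideal.Quotient.mk_surjective,
        ← RingHom.ker_eq_comap_bot, Ideal.mk_ker] at hz'
      obtain ⟨k, hk, m, hm, rfl⟩ := Submodule.mem_sup.mp hz'
      have hmJ : m ∈ J := by simpa using sub_mem hz (hle hk)
      have := GrothLib.NLAmp.inf_map_le_mul (maximalIdeal A) J ⟨hm, hmJ⟩
      exact add_mem (Submodule.mem_sup_left hk) (Submodule.mem_sup_right (Ideal.mul_mono_left hM this))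

end GrothLib.CIPres
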