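import Groth.Agent.Lib.HLVT.Subring
import Groth.Agent.Lib.Cohen.Structure
import Groth.Agent.Lib.RegLoc.PowerSeries
import Groth.Agent.Lib.RegLoc.Basic
import Groth.Agent.Lib.FibreFlat.RegularFlat
import Groth.Agent.S2456

/-!
# Cohen factorizations of local homomorphisms of complete local rings
-/

set_option autoImplicit false

universe u

open IsLocalRing RingTheory.Sequence

namespace GrothLib.CIPres

theorem mem_span_X_pow {Λ : Type u} [CommRing Λ] {d n : ℕ} {g : MvPowerSeries (Fin d) Λ}
    (hg : MvPowerSeries.truncTotal n g = 0) :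
    g ∈ (Ideal.span (Set.range (MvPowerSeries.X : Fin d → MvPowerSeries (Fin d) Λ))) ^ n := by
  let I := MvPolynomial.idealOfVars (Fin d) Λ
  let e := MvPowerSeries.toAdicCompletionAlgEquiv (Fin d) Λ
  have h1 : e g ∈ LinearMap.ker (AdicCompletion.eval I (MvPolynomial (Fin d) Λ) n) := by
    rw [LinearMap.mem_ker]
    change ((MvPowerSeries.toAdicCompletion (Fin d) Λ g).val n) = 0
    rw [MvPowerSeries.toAdicCompletion_apply_eq_mk_truncTotal, hg]
    rfl
  rw [← AdicCompletion.pow_smul_top_eq_ker_eval (MvPolynomial.idealOfVars_fg _ _)] at h1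
  have h2 : g ∈ I ^ n • (⊤ : Submodule (MvPolynomial (Fin d) Λ) (MvPowerSeries (Fin d) Λ)) := by
    have h := Submodule.mem_map_of_mem (f := e.symm.toLinearMap) h1
    rw [Submodule.map_smul'', Submodule.map_top, LinearMap.range_eq_top.2 e.symm.surjective] at h
    rwa [show e.symm.toLinearMap (e g) = g from e.symm_apply_apply g] at h
  rw [Ideal.smul_top_eq_map, Submodule.restrictScalars_mem, Ideal.map_pow] at h2
  refine Ideal.pow_right_mono ?_ n h2
  rw [Ideal.map_span, Ideal.span_le]
  rintro _ ⟨_, ⟨i, rfl⟩, rfl⟩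
  refine Ideal.subset_span ⟨i, ?_⟩
  rw [MvPowerSeries.algebraMap_apply']
  simp

/-- Maps out of a power series ring into a separated local ring are determined by the variables and constants. -/
theorem psHom_ext {Λ T : Type u} [CommRing Λ] [CommRing T] [IsLocalRing T] [IsHausdorff (maximalIdeal T) T]
    {d : ℕ} (f g : MvPowerSeries (Fin d) Λ →+* T) (hX : ∀ i, f (MvPowerSeries.X i) ∈ maximalIdeal T)
    (hC : f.comp MvPowerSeries.C = g.comp MvPowerSeries.C)
    (hXeq : ∀ i, f (MvPowerSeries.X i) = g (MvPowerSeries.X i)) : f = g := by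
  have hpoly : f.comp (MvPolynomial.coeToMvPowerSeries.ringHom) = g.comp (MvPolynomial.coeToMvPowerSeries.ringHom) := by
    refine MvPolynomial.ringHom_ext (fun r => ?_) fun i => ?_
    · simpa using RingHom.congr_fun hC r
    · simpa using hXeq i
  have hmap : ∀ h : MvPowerSeries (Fin d) Λ →+* T, (∀ i, h (MvPowerSeries.X i) ∈ maximalIdeal T) →
      ∀ (p : MvPowerSeries (Fin d) Λ) (n : ℕ),
        h p - h ((MvPowerSeries.truncTotal n p : MvPolynomial (Fin d) Λ) : MvPowerSeries (Fin d) Λ) ∈
          maximalIdeal T ^ n := fun h hh p n => by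
    rw [← map_sub]
    have h0 : MvPowerSeries.truncTotal n
        (p - ((MvPowerSeries.truncTotal n p : MvPolynomial (Fin d) Λ) : MvPowerSeries (Fin d) Λ)) = 0 := by
      rw [map_sub, sub_eq_zero]
      ext x
      rw [MvPowerSeries.coeff_truncTotal_eq_ite, MvPowerSeries.coeff_truncTotal_eq_ite, MvPolynomial.coeff_coe,
        MvPowerSeries.coeff_truncTotal_eq_ite]
      split_ifs <;> rfl
    refine Ideal.pow_right_mono ?_ n (Ideal.map_pow h _ n ▸ Ideal.mem_map_of_mem h (mem_span_X_pow h0))
    rw [Ideal.map_span, Ideal.span_le]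
    rintro _ ⟨_, ⟨i, rfl⟩, rfl⟩
    exact hh i
  refine RingHom.ext fun p => eq_of_sub_eq_zero (IsHausdorff.haus (I := maximalIdeal T) inferInstance _ fun n => ?_)
  rw [SModEq.sub_mem, sub_zero, smul_eq_mul, Ideal.mul_top]
  have h1 := hmap f hX p n
  have h2 := hmap g (fun i => hXeq i ▸ hX i) p n
  have h3 := RingHom.congr_fun hpoly (MvPowerSeries.truncTotal n p)
  simp only [RingHom.comp_apply, MvPolynomial.coeToMvPowerSeries.ringHom_apply] at h3
  rw [h3] at h1
  simpa using sub_mem h1 h2

/-- A surjection from a power series ring over a coefficient ring, extending given data. -/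
theorem exists_surjective_ext {Λ R : Type u} [CommRing Λ] [CommRing R] [IsLocalRing R]
    [IsAdicComplete (maximalIdeal R) R] (g : Λ →+* R) (hg : Function.Surjective ((residue R).comp g))
    {n : ℕ} (b : Fin n → R) (hb : Ideal.span (Set.range b) = maximalIdeal R) :
    ∃ f : MvPowerSeries (Fin n) Λ →+* R, Function.Surjective f ∧ f.comp MvPowerSeries.C = g ∧
      ∀ i, f (MvPowerSeries.X i) = b i := by
  letI : Algebra Λ R := g.toAlgebra
  obtain ⟨ψ, hψ⟩ := GrothLib.RegLoc.PS.exists_algHom (A := Λ) (maximalIdeal R) b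
    (fun i => hb ▸ Ideal.subset_span ⟨i, rfl⟩)
  refine ⟨ψ.toRingHom, ?_, RingHom.ext fun c => ψ.commutes c, hψ⟩
  set I := Ideal.span (Set.range (MvPowerSeries.X : Fin n → MvPowerSeries (Fin n) Λ))
  have hI : I.map ψ.toRingHom = maximalIdeal R := by
    rw [Ideal.map_span, ← Set.range_comp, ← hb]
    exact congrArg (fun t => Ideal.span (Set.range t)) (funext hψ)
  haveI : IsHausdorff (I.map ψ.toRingHom) R := by rw [hI]; infer_instance
  refine surjective_of_mk_map_comp_surjective (I := I) ψ.toRingHom fun y => ?_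
  obtain ⟨r, rfl⟩ := Ideal.Quotient.mk_surjective y
  obtain ⟨c, hc⟩ := hg (residue R r)
  refine ⟨algebraMap Λ _ c, ?_⟩
  refine Ideal.Quotient.eq.2 ?_
  rw [hI, AlgHom.toRingHom_eq_coe, RingHom.coe_coe, ψ.commutes]
  exact Ideal.Quotient.eq.1 hc

/-- A regular local ring whose regular system of parameters maps to part of one gives a flat map with regular
closed fibre. -/
theorem flat_and_regular_fibre {R S : Type u} [CommRing R] [CommRing S] [Algebra R S] [IsRegularLocalRing R]
    [IsRegularLocalRing S] {a b : ℕ} (x : Fin a → R) (z : Fin b → S)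
    (hx : Ideal.span (Set.range x) = maximalIdeal R) (ha : (maximalIdeal R).spanFinrank = a)
    (hxz : Ideal.span (Set.range (Fin.append (fun i => algebraMap R S (x i)) z)) = maximalIdeal S)
    (hab : (maximalIdeal S).spanFinrank = a + b) :
    IsLocalHom (algebraMap R S) ∧ Module.Flat R S ∧
      IsRegularLocalRing (S ⧸ (maximalIdeal R).map (algebraMap R S)) := by
  let y := Fin.append (fun i => algebraMap R S (x i)) z
  have hmS : ∀ i, algebraMap R S (x i) ∈ maximalIdeal S := fun i =>
    hxz ▸ Ideal.subset_span ⟨Fin.castAdd b i, Fin.append_left _ _ _⟩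
  have hmap : (maximalIdeal R).map (algebraMap R S) = Ideal.span (Set.range fun i => algebraMap R S (x i)) := by
    rw [← hx, Ideal.map_span, ← Set.range_comp]
    rfl
  have hle : (maximalIdeal R).map (algebraMap R S) ≤ maximalIdeal S := by
    rw [hmap, Ideal.span_le]
    rintro _ ⟨i, rfl⟩
    exact hmS i
  have hlist : List.ofFn y = (List.ofFn fun i => algebraMap R S (x i)) ++ List.ofFn z := List.ofFn_fin_append _ _
  have hreg : IsWeaklyRegular S (List.ofFn fun i => algebraMap R S (x i)) := by
    have h := GrothLib.RegLoc.isWeaklyRegular_ofFn (a + b) S hab y hxz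
    rw [hlist, isWeaklyRegular_append_iff] at h
    exact h.1
  have hloc : IsLocalHom (algebraMap R S) := ((local_hom_TFAE (algebraMap R S)).out 2 0 rfl rfl).mp hle
  refine ⟨hloc, ?_, ?_⟩
  · refine GrothLib.FibreFlat.flat_of_weaklyRegular (List.ofFn x)
      (GrothLib.RegLoc.isWeaklyRegular_ofFn a R ha x hx) ?_ (fun t ht => ?_) ?_
    · rw [← isWeaklyRegular_map_algebraMap_iff S S, List.map_ofFn]
      exact hreg
    · obtain ⟨i, rfl⟩ := List.mem_ofFn.mp ht
      exact hmS i
    · rw [show Ideal.ofList (List.ofFn x) = maximalIdeal R from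
        (congrArg Ideal.span (Set.ext fun r => List.mem_ofFn)).trans hx]
      exact (Ideal.Quotient.maximal_ideal_iff_isField_quotient _).mp (maximalIdeal.isMaximal R)
  · set K := (maximalIdeal R).map (algebraMap R S)
    haveI : Nontrivial (S ⧸ K) :=
      Ideal.Quotient.nontrivial_iff.mpr (ne_top_of_le_ne_top (maximalIdeal.isMaximal S).ne_top hle)
    haveI : IsLocalRing (S ⧸ K) := IsLocalRing.of_surjective' (Ideal.Quotient.mk K) Ideal.Quotient.mk_surjective
    have hgen : maximalIdeal (S ⧸ K) = Ideal.span (Set.range fun l => Ideal.Quotient.mk K (z l)) := by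
      rw [← GrothLib.RegLoc.map_maximalIdeal_quotient K, ← hxz, Ideal.map_span, ← Set.range_comp]
      refine le_antisymm (Ideal.span_le.mpr ?_) (Ideal.span_mono ?_)
      · rintro _ ⟨i, rfl⟩
        refine Fin.addCases (fun i => ?_) (fun l => ?_) i
        · rw [Function.comp_apply, Fin.append_left,
            Ideal.Quotient.eq_zero_iff_mem.mpr (Ideal.mem_map_of_mem _ (hx ▸ Ideal.subset_span ⟨i, rfl⟩ : x i ∈ maximalIdeal R))]
          exact zero_mem _
        · rw [Function.comp_apply, Fin.append_right]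
          exact Ideal.subset_span ⟨l, rfl⟩
      · rintro _ ⟨l, rfl⟩
        exact ⟨Fin.natAdd a l, by rw [Function.comp_apply, Fin.append_right]⟩
    refine IsRegularLocalRing.of_spanFinrank_maximalIdeal_le _ ?_
    have h1 : (maximalIdeal (S ⧸ K)).spanFinrank ≤ b := by
      rw [hgen]
      refine (Submodule.spanFinrank_span_le_ncard_of_finite (Set.finite_range _)).trans ?_
      rw [← Set.image_univ]
      exact (Set.ncard_image_le Set.finite_univ).trans (by simp [Set.ncard_univ])
    have h2 := ringKrullDim_le_ringKrullDim_quotient_add_spanFinrank K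
      (hle.trans (IsLocalRing.ringJacobson_eq_maximalIdeal S).ge)
    have h3 : K.spanFinrank ≤ a :=
      (Ideal.spanFinrank_map_le_of_fg (algebraMap R S) (IsNoetherian.noetherian _)).trans ha.le
    rw [← IsRegularLocalRing.spanFinrank_maximalIdeal (R := S), hab] at h2
    obtain ⟨d, hd, -⟩ := GrothLib.RegLoc.exists_dim_eq (R := S ⧸ K)
    rw [hd] at h2 ⊢
    norm_cast at h2 ⊢
    omega

/-- Generators of the maximal ideal of a power series ring over a regular base. -/
theorem maximalIdeal_powerSeries {Λ : Type u} [CommRing Λ] [IsLocalRing Λ] {a d : ℕ} (t : Fin a → Λ)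
    (ht : Ideal.span (Set.range t) = maximalIdeal Λ) :
    Ideal.span (Set.range (Fin.append (MvPowerSeries.X : Fin d → MvPowerSeries (Fin d) Λ)
      (fun j => MvPowerSeries.C (t j)))) = maximalIdeal (MvPowerSeries (Fin d) Λ) := by
  set A := MvPowerSeries (Fin d) Λ
  refine le_antisymm (Ideal.span_le.2 ?_) fun f hf => ?_
  · rintro _ ⟨i, rfl⟩
    rw [SetLike.mem_coe, IsLocalRing.mem_maximalIdeal, mem_nonunits_iff, MvPowerSeries.isUnit_iff_constantCoeff]
    refine Fin.addCases (fun i => ?_) (fun j => ?_) i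
    · simp [Fin.append_left]
    · rw [Fin.append_right, MvPowerSeries.constantCoeff_C]
      exact (IsLocalRing.mem_maximalIdeal _).mp (ht ▸ Ideal.subset_span ⟨j, rfl⟩)
  · have h0 : MvPowerSeries.constantCoeff f ∈ maximalIdeal Λ := by
      rw [IsLocalRing.mem_maximalIdeal, mem_nonunits_iff] at hf ⊢
      rwa [MvPowerSeries.isUnit_iff_constantCoeff] at hf
    obtain ⟨c, hc⟩ := Ideal.mem_span_range_iff_exists_fun.mp (ht.symm ▸ h0)
    rw [← sub_add_cancel f (MvPowerSeries.C (MvPowerSeries.constantCoeff f))]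
    refine add_mem ?_ ?_
    · have : f - MvPowerSeries.C (MvPowerSeries.constantCoeff f) ∈
          RingHom.ker (MvPowerSeries.constantCoeff : A →+* Λ) := by simp
      rw [GrothLib.AdicFS.ker_constantCoeff, GrothLib.AdicFS.varsIdeal, MvPolynomial.idealOfVars,
        Ideal.map_span] at this
      refine Ideal.span_mono ?_ this
      rintro _ ⟨_, ⟨i, rfl⟩, rfl⟩
      exact ⟨Fin.castAdd a i, by simp [MvPowerSeries.algebraMap_apply']⟩
    · rw [← hc, map_sum]
      exact Ideal.sum_mem _ fun j _ => by
        rw [map_mul]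
        exact Ideal.mul_mem_left _ _ (Ideal.subset_span ⟨Fin.natAdd d j, Fin.append_right _ _ _⟩)

/-- Dimension of a power series ring over a discrete valuation ring, from below. -/
theorem succ_le_ringKrullDim_powerSeries {Λ : Type u} [CommRing Λ] [IsDomain Λ] [IsLocalRing Λ]
    (π : Λ) (hπ : π ≠ 0) (hm : π ∈ maximalIdeal Λ) (d : ℕ) :
    ((d + 1 : ℕ) : WithBot ℕ∞) ≤ ringKrullDim (MvPowerSeries (Fin d) Λ) := by
  rw [Nat.cast_add, Nat.cast_one]
  refine le_trans (add_le_add (GrothLib.RegLoc.PS.natCast_le_ringKrullDim (ResidueField Λ) d) le_rfl) ?_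
  refine ringKrullDim_succ_le_of_surjective (MvPowerSeries.map (residue Λ))
    (fun f => ⟨fun n => (residue_surjective (f n)).choose,
      MvPowerSeries.ext fun n => (MvPowerSeries.coeff_map _ _ _).trans (residue_surjective (f n)).choose_spec⟩)
    (r := MvPowerSeries.C π)
    (mem_nonZeroDivisors_of_ne_zero ((map_ne_zero_iff _ (fun x y h => by
      simpa using congrArg MvPowerSeries.constantCoeff h)).2 hπ)) ?_
  rw [MvPowerSeries.map_C, (residue_eq_zero_iff _).2 hm, map_zero]

/-- The coefficient ring data of a complete local ring of residue characteristic `q`. -/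
def IsCoeff (q : ℕ) (W : Type u) [CommRing W] [IsLocalRing W] : Prop :=
  EGA41.IsCohenRingEGA W ∧ IsAdicComplete (maximalIdeal W) W ∧ IsNoetherianRing W ∧
    ∃ (a : ℕ) (t : Fin a → ℕ), (t = fun _ => q) ∧ a = (if q = 0 then 0 else 1) ∧
      Ideal.span (Set.range fun j => (t j : W)) = maximalIdeal W ∧
      ∀ d : ℕ, IsRegularLocalRing (MvPowerSeries (Fin d) W) ∧
        (maximalIdeal (MvPowerSeries (Fin d) W)).spanFinrank = d + a

theorem isCoeff_field (k : Type u) [Field k] [CharZero k] : IsCoeff 0 k := by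
  refine ⟨Or.inl ⟨Field.toIsField k, inferInstance⟩, by rw [IsLocalRing.maximalIdeal_eq_bot]; infer_instance,
    inferInstance, 0, fun _ => 0, rfl, by simp, by simp [IsLocalRing.maximalIdeal_eq_bot], fun d => ?_⟩
  have hreg := GrothLib.RegLoc.PS.isRegularLocalRing k (d := d)
  refine ⟨hreg, ?_⟩
  have h1 := IsRegularLocalRing.spanFinrank_maximalIdeal (R := MvPowerSeries (Fin d) k)
  have h2 := GrothLib.RegLoc.PS.natCast_le_ringKrullDim k d
  rw [← h1] at h2
  have h3 : (maximalIdeal (MvPowerSeries (Fin d) k)).spanFinrank ≤ d :=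
    GrothLib.RegLoc.spanFinrank_le_of_span _ (GrothLib.RegLoc.PS.span_X k)
  norm_cast at h2
  omega

theorem isCoeff_cohen (W : Type u) [CommRing W] [IsLocalRing W] (hW : CAlg.IsCohenRing W) (p : ℕ) (hp : p.Prime)
    (hm : maximalIdeal W = Ideal.span {(p : W)}) : IsCoeff p W := by
  obtain ⟨hd, hv, hc, -⟩ := hW
  haveI := hv
  have hp0 : (p : W) ≠ 0 := by
    haveI := GrothLib.Cohen.charZero_of_maximalIdeal_eq_span W p hp hm
    exact_mod_cast hp.ne_zero
  refine ⟨Or.inr ⟨hd, hv, hc, p, hp, hm⟩, hc, inferInstance, 1, fun _ => p, rfl, by simp [hp.ne_zero],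
    by simp [hm], fun d => ?_⟩
  have hreg := GrothLib.J2.isRegularLocalRing_powerSeries (p : W) hp0 hm d
  refine ⟨hreg, ?_⟩
  have h1 := IsRegularLocalRing.spanFinrank_maximalIdeal (R := MvPowerSeries (Fin d) W)
  have h2 := succ_le_ringKrullDim_powerSeries (p : W) hp0 (hm ▸ Ideal.mem_span_singleton_self _) d
  rw [← h1] at h2
  have h3 : (maximalIdeal (MvPowerSeries (Fin d) W)).spanFinrank ≤ d + 1 := by
    rw [← maximalIdeal_powerSeries (fun _ : Fin 1 => (p : W)) (by simp [hm])]
    refine (Submodule.spanFinrank_span_le_ncard_of_finite (Set.finite_range _)).trans ?_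
    rw [← Set.image_univ]
    exact (Set.ncard_image_le Set.finite_univ).trans (by simp [Set.ncard_univ])
  norm_cast at h2
  omega

/-- Coefficient rings exist. -/
theorem exists_coeff (R : Type u) [CommRing R] [IsLocalRing R] [IsAdicComplete (maximalIdeal R) R] (q : ℕ)
    [CharP (ResidueField R) q] :
    ∃ (W : Type u) (_ : CommRing W) (_ : IsLocalRing W) (g : W →+* R), IsCoeff q W ∧ IsLocalHom g ∧
      Function.Surjective ((residue R).comp g) := by
  have hloc : ∀ (W : Type u) [CommRing W] [IsLocalRing W] (g : W →+* R) (σ : ResidueField W →+* ResidueField R),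
      (residue R).comp g = σ.comp (residue W) → IsLocalHom g := fun W _ _ g σ h => ⟨fun w hw => by
    by_contra hu
    have h0 : residue W w = 0 := (residue_eq_zero_iff _).2 ((IsLocalRing.mem_maximalIdeal _).2 hu)
    have h1 : residue R (g w) = 0 := by
      rw [← RingHom.comp_apply, h, RingHom.comp_apply, h0, map_zero]
    exact (IsLocalRing.mem_maximalIdeal _).1 ((residue_eq_zero_iff _).1 h1) hw⟩
  rcases CharP.char_is_prime_or_zero (ResidueField R) q with hp | rfl
  · obtain ⟨W, _, _, hW, ⟨e⟩⟩ := GrothLib.Cohen.exists_cohenRing q hp (ResidueField R)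
    obtain ⟨hd, hv, hc, p, hp', hm⟩ := hW
    have hqp : p = q := by
      have h1 : (p : ResidueField R) = 0 := by
        rw [← map_natCast e, ← map_natCast (residue W), (residue_eq_zero_iff _).2
          (hm ▸ Ideal.subset_span rfl), map_zero]
      exact ((Nat.prime_dvd_prime_iff_eq hp hp').1 ((CharP.cast_eq_zero_iff _ q p).1 h1)).symm
    subst hqp
    have hpR : (p : R) ∈ maximalIdeal R := by
      rw [← residue_eq_zero_iff, map_natCast, CharP.cast_eq_zero]
    haveI := hv
    obtain ⟨g, hg⟩ := GrothLib.Cohen.exists_lift p hp' hm hpR e.toRingHom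
    exact ⟨W, inferInstance, inferInstance, g, isCoeff_cohen W ⟨hd, hv, hc, p, hp', hm⟩ p hp' hm,
      hloc W g _ hg, by rw [hg]; exact e.surjective.comp residue_surjective⟩
  · haveI : CharZero (ResidueField R) := CharP.charP_to_charZero _
    obtain ⟨halg⟩ := GrothLib.CoeffField.nonempty_algebra_rat R
    obtain ⟨s, hs⟩ := GrothLib.CoeffField.exists_coefficientField (ULift.{u} ℚ) R
    refine ⟨ResidueField R, inferInstance, inferInstance, s, isCoeff_field (ResidueField R), ?_,
      by rw [hs]; exact Function.surjective_id⟩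
    exact ⟨fun w hw => by
      have h1 := hw.map (residue R)
      rwa [← RingHom.comp_apply, hs, RingHom.id_apply] at h1⟩

variable {A B : Type u} [CommRing A] [CommRing B] [Algebra A B] [IsLocalRing A] [IsLocalRing B]
  [IsNoetherianRing A] [IsNoetherianRing B] [IsLocalHom (algebraMap A B)]
  [IsAdicComplete (maximalIdeal A) A] [IsAdicComplete (maximalIdeal B) B]

/-- **Cohen factorization.** -/
theorem exists_factorization :
    ∃ (R S : Type u) (_ : CommRing R) (_ : CommRing S) (_ : IsRegularLocalRing R) (_ : IsRegularLocalRing S)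
      (_ : IsAdicComplete (maximalIdeal R) R) (_ : IsAdicComplete (maximalIdeal S) S)
      (_ : Algebra R S) (_ : IsLocalHom (algebraMap R S)) (_ : Module.Flat R S)
      (_ : IsRegularLocalRing (S ⧸ (maximalIdeal R).map (algebraMap R S)))
      (φ : R →+* A) (ψ : S →+* B), Function.Surjective φ ∧ Function.Surjective ψ ∧
        ψ.comp (algebraMap R S) = (algebraMap A B).comp φ := by
  obtain ⟨q, hq⟩ := CharP.exists (ResidueField A)
  haveI : CharP (ResidueField B) q :=
    charP_of_injective_ringHom (IsLocalRing.ResidueField.map (algebraMap A B)).injective q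
  obtain ⟨W, _, _, g, ⟨hWc, hWcompl, hWnoeth, a, t, rfl, ha, hmW, hregW⟩, hgloc, hg⟩ := exists_coeff A q
  obtain ⟨W', _, _, g', ⟨hWc', hWcompl', hWnoeth', a', t', rfl, ha', hmW', hregW'⟩, hgloc', hg'⟩ := exists_coeff B q
  obtain rfl : a' = a := ha'.trans ha.symm
  obtain ⟨n, xA, hxA⟩ : ∃ (n : ℕ) (x : Fin n → A), Ideal.span (Set.range x) = maximalIdeal A :=
    Submodule.fg_iff_exists_fin_generating_family.mp (maximalIdeal A).fg_of_isNoetherianRing
  obtain ⟨k, xB, hxB⟩ : ∃ (k : ℕ) (x : Fin k → B), Ideal.span (Set.range x) = maximalIdeal B :=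
    Submodule.fg_iff_exists_fin_generating_family.mp (maximalIdeal B).fg_of_isNoetherianRing
  have hAB : ∀ i, algebraMap A B (xA i) ∈ maximalIdeal B := fun i =>
    ((local_hom_TFAE (algebraMap A B)).out 0 2 rfl rfl).mp inferInstance
      (Ideal.mem_map_of_mem _ (hxA ▸ Ideal.subset_span ⟨i, rfl⟩))
  let b : Fin (n + k) → B := Fin.append (fun i => algebraMap A B (xA i)) xB
  have hb : Ideal.span (Set.range b) = maximalIdeal B := by
    refine le_antisymm (Ideal.span_le.mpr ?_) ?_
    · rintro _ ⟨i, rfl⟩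
      refine Fin.addCases (fun i => ?_) (fun l => ?_) i
      · rw [show b (Fin.castAdd k i) = _ from Fin.append_left _ _ _]
        exact hAB i
      · rw [show b (Fin.natAdd n l) = _ from Fin.append_right _ _ _]
        exact hxB ▸ Ideal.subset_span ⟨l, rfl⟩
    · rw [← hxB]
      exact Ideal.span_mono (by rintro _ ⟨l, rfl⟩; exact ⟨Fin.natAdd n l, Fin.append_right _ _ _⟩)
  let R := MvPowerSeries (Fin n) W
  let S := MvPowerSeries (Fin (n + k)) W'
  obtain ⟨hRreg, hRdim⟩ := hregW n
  obtain ⟨hSreg, hSdim⟩ := hregW' (n + k)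
  haveI : IsAdicComplete (maximalIdeal R) R := GrothLib.HLVT.isAdicComplete_powerSeries W n
  haveI : IsAdicComplete (maximalIdeal S) S := GrothLib.HLVT.isAdicComplete_powerSeries W' (n + k)
  obtain ⟨φ, hφs, hφC, hφX⟩ := exists_surjective_ext g hg xA hxA
  obtain ⟨ψ, hψs, hψC, hψX⟩ := exists_surjective_ext g' hg' b hb
  let eψ : S ⧸ RingHom.ker ψ ≃+* B := RingHom.quotientKerEquivOfSurjective hψs
  haveI : Nontrivial (S ⧸ RingHom.ker ψ) := eψ.toEquiv.nontrivial
  haveI : IsLocalRing (S ⧸ RingHom.ker ψ) := IsLocalRing.of_surjective' _ Ideal.Quotient.mk_surjective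
  let u : W →+* S ⧸ RingHom.ker ψ := eψ.symm.toRingHom.comp ((algebraMap A B).comp g)
  haveI : IsLocalHom u := ⟨fun w hw => hgloc.map_nonunit w
    (isUnit_of_map_unit (algebraMap A B) _ ((isUnit_map_iff eψ.symm _).mp hw))⟩
  obtain ⟨v, -, hv⟩ := Groth.Agent.S2456.result hWc (RingHom.ker ψ) (RingHom.ker_ne_top ψ) u
  have hψv : ∀ w, ψ (v w) = algebraMap A B (g w) := fun w => by
    have := congrArg eψ (RingHom.congr_fun hv w)
    simpa [u, eψ] using this
  letI : Algebra W S := v.toAlgebra
  obtain ⟨θ, hθ⟩ := GrothLib.RegLoc.PS.exists_algHom (A := W) (maximalIdeal S)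
    (fun i : Fin n => (MvPowerSeries.X (Fin.castAdd k i) : S)) (fun i => by
      rw [IsLocalRing.mem_maximalIdeal, mem_nonunits_iff, MvPowerSeries.isUnit_iff_constantCoeff]
      simp)
  letI : Algebra R S := θ.toRingHom.toAlgebra
  have hθC : ∀ w, algebraMap R S (MvPowerSeries.C w) = v w := fun w => θ.commutes w
  have hy : (fun i => algebraMap R S (Fin.append (MvPowerSeries.X : Fin n → R)
      (fun _ : Fin a' => MvPowerSeries.C (q : W)) i)) =
      Fin.append (fun i => (MvPowerSeries.X (Fin.castAdd k i) : S)) (fun _ => MvPowerSeries.C (q : W')) := by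
    funext i
    refine Fin.addCases (fun i => ?_) (fun j => ?_) i
    · rw [Fin.append_left, Fin.append_left]
      exact hθ i
    · rw [Fin.append_right, Fin.append_right, hθC, map_natCast, map_natCast]
  have hmR := maximalIdeal_powerSeries (d := n) _ hmW
  have hmS : Ideal.span (Set.range (Fin.append (fun i => algebraMap R S
      (Fin.append (MvPowerSeries.X : Fin n → R) (fun _ : Fin a' => MvPowerSeries.C (q : W)) i))
      (fun l : Fin k => (MvPowerSeries.X (Fin.natAdd n l) : S)))) = maximalIdeal S := by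
    rw [← maximalIdeal_powerSeries (d := n + k) _ hmW', hy]
    congr 1
    ext z
    constructor
    · rintro ⟨i, rfl⟩
      refine Fin.addCases (fun i => ?_) (fun l => ?_) i
      · rw [Fin.append_left]
        refine Fin.addCases (fun i => ?_) (fun j => ?_) i
        · exact ⟨Fin.castAdd a' (Fin.castAdd k i), by simp⟩
        · exact ⟨Fin.natAdd (n + k) j, by simp⟩
      · exact ⟨Fin.castAdd a' (Fin.natAdd n l), by simp⟩
    · rintro ⟨i, rfl⟩
      refine Fin.addCases (fun i => ?_) (fun j => ?_) i
      · refine Fin.addCases (fun i => ?_) (fun l => ?_) i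
        · exact ⟨Fin.castAdd k (Fin.castAdd a' i), by simp⟩
        · exact ⟨Fin.natAdd (n + a') l, by simp⟩
      · exact ⟨Fin.castAdd k (Fin.natAdd n j), by simp⟩
  obtain ⟨hloc, hflat, hfib⟩ := flat_and_regular_fibre _ _ hmR hRdim hmS (by rw [hSdim]; omega)
  refine ⟨R, S, inferInstance, inferInstance, hRreg, hSreg, inferInstance, inferInstance, inferInstance, hloc,
    hflat, hfib, φ, ψ, hφs, hψs, psHom_ext _ _ (fun i => ?_) (RingHom.ext fun w => ?_) fun i => ?_⟩
  · rw [RingHom.comp_apply, show algebraMap R S (MvPowerSeries.X i) = _ from hθ i, hψX,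
      show b (Fin.castAdd k i) = _ from Fin.append_left _ _ _]
    exact hAB i
  · simp only [RingHom.comp_apply, hθC, hψv, ← hφC]
  · rw [RingHom.comp_apply, RingHom.comp_apply, show algebraMap R S (MvPowerSeries.X i) = _ from hθ i, hψX, hφX]
    exact Fin.append_left _ _ _

end GrothLib.CIPres
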