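import Groth.Agent.Lib.DiagSmooth.Pd
import Groth.Agent.Lib.Serre.Regular
import Groth.Agent.Lib.PerfHom.Perfect
import Mathlib.RingTheory.Flat.EquationalCriterion
import Mathlib.LinearAlgebra.TensorProduct.Quotient

/-!
# Finite projective dimension from a regular closed fibre
-/

set_option autoImplicit false

universe u

open IsLocalRing TensorProduct GrothLib.Serre

namespace GrothLib.CIPres

variable {A T : Type u} [CommRing A] [CommRing T] [Algebra A T] [IsLocalRing A] [IsNoetherianRing A]

/-- Kernels onto flat modules survive passage to the closed fibre. -/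
theorem injective_lTensor_ker {M : Type u} [AddCommGroup M] [Module T M] [Module A M] [IsScalarTower A T M]
    [Module.Flat A M] {r : ℕ} (f : (Fin r → T) →ₗ[T] M) (hf : Function.Surjective f) :
    Function.Injective ((LinearMap.ker f).subtype.lTensor (T ⧸ (maximalIdeal A).map (algebraMap A T))) := by
  classical
  set I := (maximalIdeal A).map (algebraMap A T)
  refine (injective_iff_map_eq_zero _).mpr fun x hx => ?_
  obtain ⟨k, rfl⟩ := TensorProduct.mk_surjective T (LinearMap.ker f) (T ⧸ I) Ideal.Quotient.mk_surjective x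
  rw [TensorProduct.mk_apply, LinearMap.lTensor_tmul] at hx
  have hcoord : ∀ l, k.1 l ∈ I := fun l => by
    have h := congrArg (fun y => TensorProduct.rid T (T ⧸ I) ((LinearMap.proj l).lTensor (T ⧸ I) y)) hx
    simpa [Algebra.smul_def, Ideal.Quotient.eq_zero_iff_mem] using h
  obtain ⟨S, hS⟩ := (maximalIdeal A).fg_of_isNoetherianRing
  let t : S → A := fun i => i.1
  have hI : I = Ideal.span (Set.range fun i => algebraMap A T (t i)) := by
    show Ideal.map _ _ = _
    rw [← hS, Ideal.map_span]
    congr 1
    ext z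
    simp [t]
  choose c hc using fun l => Ideal.mem_span_range_iff_exists_fun.mp (hI ▸ hcoord l)
  let F : S → (Fin r → T) := fun i l => c l i
  have hk : k.1 = ∑ i, t i • F i := by
    ext l
    rw [← hc l, Finset.sum_apply]
    exact Finset.sum_congr rfl fun i _ => by rw [Pi.smul_apply, Algebra.smul_def, mul_comm]
  have h0 : ∑ i, t i • f (F i) = 0 := by
    have : f k.1 = 0 := k.2
    rw [hk, map_sum] at this
    rw [← this]
    exact Finset.sum_congr rfl fun i _ => (LinearMap.map_smul_of_tower f (t i) (F i)).symm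
  obtain ⟨N, a, y, hy, ha⟩ := Module.Flat.isTrivialRelation_of_sum_smul_eq_zero (R := A) (M := M)
    (f := t) (x := fun i => f (F i)) h0
  choose v hv using fun j => hf (y j)
  have hK : ∀ i, F i - ∑ j, a i j • v j ∈ LinearMap.ker f := fun i => by
    rw [LinearMap.mem_ker, map_sub, map_sum, sub_eq_zero, show f (F i) = _ from hy i]
    exact Finset.sum_congr rfl fun j _ => by rw [LinearMap.map_smul_of_tower, hv]
  have hk' : k = ∑ i, algebraMap A T (t i) • (⟨_, hK i⟩ : LinearMap.ker f) := by
    refine Subtype.ext ?_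
    rw [AddSubmonoidClass.coe_finsetSum, hk]
    simp only [SetLike.val_smul, Submodule.coe_smul_of_tower, algebraMap_smul, smul_sub, Finset.sum_sub_distrib, Finset.smul_sum, smul_smul]
    rw [Finset.sum_comm]
    simp only [← Finset.sum_smul, ha, zero_smul, Finset.sum_const_zero, sub_zero]
  rw [TensorProduct.mk_apply, hk', tmul_sum]
  refine Finset.sum_eq_zero fun i _ => ?_
  rw [← smul_tmul, Algebra.smul_def, mul_one, Ideal.Quotient.algebraMap_eq,
    Ideal.Quotient.eq_zero_iff_mem.mpr (Ideal.mem_map_of_mem _ (hS ▸ Submodule.subset_span i.2)), zero_tmul]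

theorem mem_smul_top_of_tmul_eq_zero {M : Type u} [AddCommGroup M] [Module T M] (I : Ideal T) (x : M)
    (h : (1 : T ⧸ I) ⊗ₜ[T] x = 0) : x ∈ I • (⊤ : Submodule T M) := by
  have := congrArg (TensorProduct.quotTensorEquivQuotSMul M I) h
  rw [map_zero, ← map_one (Ideal.Quotient.mk I), TensorProduct.quotTensorEquivQuotSMul_mk_tmul, one_smul] at this
  exact (Submodule.Quotient.mk_eq_zero _).mp this

variable [IsLocalRing T] [IsNoetherianRing T] [IsLocalHom (algebraMap A T)] [Module.Flat A T]

/-- Projective dimension of a flat module is bounded by that of its closed fibre. -/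
theorem pdLE_of_closedFibre : ∀ (d : ℕ) (M : Type u) [AddCommGroup M] [Module T M] [Module A M]
    [IsScalarTower A T M] [Module.Finite T M] [Module.Flat A M],
    PdLE (T ⧸ (maximalIdeal A).map (algebraMap A T)) ((T ⧸ (maximalIdeal A).map (algebraMap A T)) ⊗[T] M) d →
      PdLE T M d := by
  set I := (maximalIdeal A).map (algebraMap A T)
  have hIle : I ≤ maximalIdeal T :=
    ((local_hom_TFAE (algebraMap A T)).out 0 2 rfl rfl).mp inferInstance
  haveI : Nontrivial (T ⧸ I) :=
    Ideal.Quotient.nontrivial_iff.mpr (ne_top_of_le_ne_top (maximalIdeal.isMaximal T).ne_top hIle)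
  haveI : IsLocalRing (T ⧸ I) := IsLocalRing.of_surjective' (Ideal.Quotient.mk I) Ideal.Quotient.mk_surjective
  intro d
  induction d with
  | zero =>
    intro M _ _ _ _ _ _ h
    haveI := pdLE_zero_iff.mp h
    haveI : Module.Free (T ⧸ I) ((T ⧸ I) ⊗[T] M) := Module.free_of_flat_of_isLocalRing
    let b := Module.finBasis (T ⧸ I) ((T ⧸ I) ⊗[T] M)
    choose m hm using fun l => TensorProduct.mk_surjective T M (T ⧸ I) Ideal.Quotient.mk_surjective (b l)
    let f : (Fin (Module.finrank (T ⧸ I) ((T ⧸ I) ⊗[T] M)) → T) →ₗ[T] M := Fintype.linearCombination T m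
    have hf : Function.Surjective f := by
      rw [← LinearMap.range_eq_top, eq_top_iff]
      refine Submodule.le_of_le_smul_of_le_jacobson_bot Module.Finite.fg_top
        (hIle.trans (IsLocalRing.maximalIdeal_le_jacobson _)) fun x _ => ?_
      choose c hc using fun l => Ideal.Quotient.mk_surjective (b.repr ((1 : T ⧸ I) ⊗ₜ[T] x) l)
      refine Submodule.mem_sup.mpr ⟨f c, ⟨c, rfl⟩, x - f c, mem_smul_top_of_tmul_eq_zero I _ ?_, by abel⟩
      rw [tmul_sub, Fintype.linearCombination_apply, tmul_sum, sub_eq_zero]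
      conv_lhs => rw [← b.sum_repr ((1 : T ⧸ I) ⊗ₜ[T] x)]
      refine Finset.sum_congr rfl fun l _ => ?_
      rw [tmul_smul, ← hm l, ← hc l, TensorProduct.mk_apply]
      exact algebraMap_smul (T ⧸ I) (c l) _
    have hinj := injective_lTensor_ker (A := A) f hf
    have hbot : LinearMap.ker f = ⊥ := by
      refine Submodule.eq_bot_of_le_smul_of_le_jacobson_bot I _ (IsNoetherian.noetherian _) (fun x hx => ?_)
        (hIle.trans (IsLocalRing.maximalIdeal_le_jacobson _))
      have h0 : (1 : T ⧸ I) ⊗ₜ[T] (⟨x, hx⟩ : LinearMap.ker f) = 0 := by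
        refine hinj ?_
        rw [map_zero, LinearMap.lTensor_tmul, Submodule.subtype_apply]
        have hx' : (f.baseChange (T ⧸ I)) ((1 : T ⧸ I) ⊗ₜ[T] x) = 0 := by
          rw [LinearMap.baseChange_tmul, LinearMap.mem_ker.mp hx, tmul_zero]
        have hsum : (1 : T ⧸ I) ⊗ₜ[T] x = ∑ l, Ideal.Quotient.mk I (x l) • ((1 : T ⧸ I) ⊗ₜ[T] Pi.single l (1 : T)) := by
          conv_lhs => rw [← Finset.univ_sum_single x, tmul_sum]
          refine Finset.sum_congr rfl fun l _ => ?_
          rw [show (Pi.single l (x l) : Fin _ → T) = x l • Pi.single l 1 by rw [← Pi.single_smul', smul_eq_mul, mul_one],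
            tmul_smul]
          exact (algebraMap_smul (T ⧸ I) (x l) _).symm
        rw [hsum] at hx' ⊢
        simp only [map_sum, map_smul, LinearMap.baseChange_tmul, f, Fintype.linearCombination_apply_single,
          one_smul] at hx'
        simp only [TensorProduct.mk_apply] at hm
        simp only [hm] at hx'
        have := Fintype.linearIndependent_iff.mp b.linearIndependent _ hx'
        simp [this]
      have h2 := Submodule.mem_map_of_mem (f := (LinearMap.ker f).subtype) (mem_smul_top_of_tmul_eq_zero I _ h0)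
      rw [Submodule.map_smul'', Submodule.map_top, Submodule.range_subtype] at h2
      exact h2
    exact pdLE_zero_iff.mpr
      (Module.Projective.of_equiv (LinearEquiv.ofBijective f ⟨LinearMap.ker_eq_bot.mp hbot, hf⟩))
  | succ d ih =>
    intro M _ _ _ _ _ _ h
    obtain ⟨r, f, hf⟩ := Module.Finite.exists_fin' T M
    haveI : Module.Flat A (Fin r → T) := Module.Flat.trans A T (Fin r → T)
    haveI : Module.Flat A (LinearMap.ker f) :=
      (GrothLib.DiagSmooth.flat_ker (f.restrictScalars A) hf :)
    refine (pdLE_succ_iff f hf d).mpr (ih _ ?_)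
    exact (pdLE_baseChange_succ_iff (T ⧸ I) f hf (injective_lTensor_ker f hf) d).mp h

/-- A finite module flat over the base has finite tor dimension when the closed fibre is regular. -/
theorem hasFiniteTorDim_of_regular_closedFibre
    [IsRegularLocalRing (T ⧸ (maximalIdeal A).map (algebraMap A T))]
    (M : Type u) [AddCommGroup M] [Module T M] [Module A M] [IsScalarTower A T M] [Module.Finite T M]
    [Module.Flat A M] : DRing.HasFiniteTorDim T M := by
  set I := (maximalIdeal A).map (algebraMap A T)
  obtain ⟨d, hd⟩ : ∃ d : ℕ, ringKrullDim (T ⧸ I) = d :=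
    ⟨_, (IsRegularLocalRing.spanFinrank_maximalIdeal (R := T ⧸ I)).symm⟩
  have h := pdLE_of_closedFibre (A := A) d M (pdLE_of_isRegularLocalRing (T ⧸ I) d hd _)
  exact ⟨d, (GrothLib.KF.hasTorDimLE_iff M d).2 (GrothLib.DR.hasTorAmplitudeIn_of_projectiveDimension d M h)⟩

end GrothLib.CIPres
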