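import Groth.Agent.Lib.CIPres.Basic
import Groth.Agent.Lib.CIPres.FibrePd
import Groth.Agent.Lib.NLAmp.Fibre
import Groth.Agent.Lib.CMMor6.Algebra
import Groth.Agent.Lib.Serre.Smooth
import Groth.Agent.Lib.RegLoc.Basic
import Groth.Agent.Lib.GorFlat.Main
import Groth.Agent.S2199

/-!
# Complete intersections along flat maps of quotients of regular local rings
-/

set_option autoImplicit false

universe u

open IsLocalRing RingTheory.Sequence

namespace GrothLib.CIPres

variable {R S : Type u} [CommRing R] [CommRing S] [Algebra R S]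

/-- Flatness is insensitive to quotient scalars. -/
theorem flat_of_addEquiv_quotient (I : Ideal R) {M N : Type u} [AddCommGroup M] [Module (R ⧸ I) M] [Module R M]
    [IsScalarTower R (R ⧸ I) M] [AddCommGroup N] [Module (R ⧸ I) N] [Module R N] [IsScalarTower R (R ⧸ I) N]
    (e : M ≃ₗ[R] N) [Module.Flat (R ⧸ I) M] : Module.Flat (R ⧸ I) N :=
  Module.Flat.of_linearEquiv
    ({ e with
        map_smul' := fun c x => by
          obtain ⟨c, rfl⟩ := Ideal.Quotient.mk_surjective c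
          show e ((algebraMap R (R ⧸ I) c) • x) = algebraMap R (R ⧸ I) c • e x
          rw [algebraMap_smul, algebraMap_smul, map_smul] } : M ≃ₗ[R ⧸ I] N).symm

variable [IsRegularLocalRing R] [IsLocalRing S] [IsNoetherianRing S] [IsLocalHom (algebraMap R S)]
  (I : Ideal R) (J : Ideal S) [Algebra (R ⧸ I) (S ⧸ J)] [IsScalarTower R (R ⧸ I) (S ⧸ J)]

include I in
theorem map_le_of_tower : I.map (algebraMap R S) ≤ J := by
  refine Ideal.map_le_iff_le_comap.mpr fun r hr => ?_
  rw [Ideal.mem_comap, ← Ideal.Quotient.eq_zero_iff_mem, ← Ideal.Quotient.algebraMap_eq,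
    ← IsScalarTower.algebraMap_apply R S (S ⧸ J), IsScalarTower.algebraMap_apply R (R ⧸ I) (S ⧸ J),
    Ideal.Quotient.algebraMap_eq, Ideal.Quotient.eq_zero_iff_mem.mpr hr, map_zero]

theorem map_maximalIdeal_le : (maximalIdeal R).map (algebraMap R S) ≤ maximalIdeal S :=
  ((local_hom_TFAE (algebraMap R S)).out 0 2 rfl rfl).mp inferInstance

variable [Module.Flat (R ⧸ I) (S ⧸ J)]

include I in
/-- With a flat quotient, an element of `J` vanishing on the closed fibre lies in `I S + m J`. -/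
theorem inf_le_sup_mul :
    (maximalIdeal R).map (algebraMap R S) ⊓ J ≤
      I.map (algebraMap R S) ⊔ (maximalIdeal R).map (algebraMap R S) * J := by
  let IS := I.map (algebraMap R S)
  have hle : IS ≤ J := map_le_of_tower I J
  letI : Algebra (R ⧸ I) (S ⧸ IS) := Ideal.Quotient.algebraQuotientMapQuotient
  haveI : IsScalarTower R (R ⧸ I) (S ⧸ IS) := IsScalarTower.of_algebraMap_eq fun _ => rfl
  let J' : Ideal (S ⧸ IS) := J.map (Ideal.Quotient.mk IS)
  haveI : IsScalarTower R (R ⧸ I) ((S ⧸ IS) ⧸ J') := IsScalarTower.of_algebraMap_eq fun _ => rfl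
  haveI : Module.Flat (R ⧸ I) ((S ⧸ IS) ⧸ J') :=
    flat_of_addEquiv_quotient I
      ((DoubleQuot.quotQuotEquivQuotOfLEₐ R hle).symm.trans
        (Ideal.quotientEquivAlgOfEq R (show J.map (Ideal.Quotient.mkₐ R IS) = J' from rfl))).toLinearEquiv
  have hmap : ((maximalIdeal R).map (Ideal.Quotient.mk I)).map (algebraMap (R ⧸ I) (S ⧸ IS)) =
      ((maximalIdeal R).map (algebraMap R S)).map (Ideal.Quotient.mk IS) := by
    rw [Ideal.map_map, Ideal.map_map]
    rfl
  intro z hz
  have h1 : Ideal.Quotient.mk IS z ∈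
      ((maximalIdeal R).map (Ideal.Quotient.mk I)).map (algebraMap (R ⧸ I) (S ⧸ IS)) ⊓ J' := by
    rw [hmap]
    exact ⟨Ideal.mem_map_of_mem _ hz.1, Ideal.mem_map_of_mem _ hz.2⟩
  have h2 := GrothLib.NLAmp.inf_map_le_mul _ J' h1
  rw [hmap, ← Ideal.map_mul, ← Ideal.mem_comap,
    Ideal.comap_map_of_surjective _ Ideal.Quotient.mk_surjective, ← RingHom.ker_eq_comap_bot, Ideal.mk_ker,
    sup_comm] at h2
  exact h2

variable [Module.Flat R S]

include I in
/-- Upper bound: generators of `I` and of the fibre ideal generate `J`. -/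
theorem spanFinrank_le_add [IsLocalRing (S ⧸ (maximalIdeal R).map (algebraMap R S))] (hJ : J ≠ ⊤) :
    J.spanFinrank ≤ I.spanFinrank +
      (J.map (Ideal.Quotient.mk ((maximalIdeal R).map (algebraMap R S)))).spanFinrank := by
  classical
  set M := (maximalIdeal R).map (algebraMap R S)
  set J₀ := J.map (Ideal.Quotient.mk M)
  obtain ⟨g, hg⟩ := exists_generators I
  obtain ⟨h₀, hh₀⟩ := exists_generators J₀
  have hlift : ∀ l, ∃ h ∈ J, Ideal.Quotient.mk M h = h₀ l := fun l =>
    (Ideal.mem_map_iff_of_surjective _ Ideal.Quotient.mk_surjective).mp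
      (hh₀ ▸ Ideal.subset_span ⟨l, rfl⟩ : h₀ l ∈ J₀)
  choose h hhJ hh using hlift
  let v : Fin I.spanFinrank ⊕ Fin J₀.spanFinrank → S := Sum.elim (fun i => algebraMap R S (g i)) h
  have hIS : I.map (algebraMap R S) ≤ Ideal.span (Set.range v) := by
    conv_lhs => rw [← hg]
    rw [Ideal.map_span, Ideal.span_le]
    rintro _ ⟨_, ⟨i, rfl⟩, rfl⟩
    exact Ideal.subset_span ⟨Sum.inl i, rfl⟩
  have hv : Ideal.span (Set.range v) = J := by
    refine le_antisymm (Ideal.span_le.mpr ?_) (le_of_le_sup fun z hz => ?_)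
    · rintro _ ⟨i | l, rfl⟩
      · exact map_le_of_tower I J (Ideal.mem_map_of_mem _ (hg ▸ Ideal.subset_span ⟨i, rfl⟩))
      · exact hhJ l
    obtain ⟨c₀, hc₀⟩ := Ideal.mem_span_range_iff_exists_fun.mp
      (show Ideal.Quotient.mk M z ∈ Ideal.span (Set.range h₀) by rw [hh₀]; exact Ideal.mem_map_of_mem _ hz)
    choose c hc using fun l => Ideal.Quotient.mk_surjective (c₀ l)
    have hd : z - ∑ l, c l * h l ∈ M ⊓ J := by
      refine ⟨?_, sub_mem hz (Ideal.sum_mem _ fun l _ => Ideal.mul_mem_left _ _ (hhJ l))⟩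
      rw [SetLike.mem_coe, ← Ideal.Quotient.eq, map_sum, ← hc₀]
      exact Finset.sum_congr rfl fun l _ => by rw [map_mul, hc, hh]
    have := sup_le_sup hIS (Ideal.mul_mono_left map_maximalIdeal_le) (inf_le_sup_mul I J hd)
    rw [show z = ∑ l, c l * h l + (z - ∑ l, c l * h l) by ring]
    exact add_mem (Submodule.mem_sup_left (Ideal.sum_mem _ fun l _ =>
      Ideal.mul_mem_left _ _ (Ideal.subset_span ⟨Sum.inr l, rfl⟩))) this
  have hcard := spanFinrank_le_card v
  rwa [hv, Fintype.card_sum, Fintype.card_fin, Fintype.card_fin] at hcard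

variable [IsRegularLocalRing (S ⧸ (maximalIdeal R).map (algebraMap R S))]

include I in
/-- The extended ideal is independent inside `J`. -/
theorem mem_mul_map_of_mem_mul (hJ : J ≠ ⊤) (hI : I ≠ ⊤) (x : S) (hx : x ∈ I.map (algebraMap R S))
    (hxm : x ∈ maximalIdeal S * J) : x ∈ maximalIdeal S * I.map (algebraMap R S) := by
  let IS := I.map (algebraMap R S)
  have hle : IS ≤ J := map_le_of_tower I J
  haveI : Nontrivial (R ⧸ I) := Ideal.Quotient.nontrivial_iff.mpr hI
  haveI : IsLocalRing (R ⧸ I) := IsLocalRing.of_surjective' (Ideal.Quotient.mk I) Ideal.Quotient.mk_surjective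
  haveI : Nontrivial (S ⧸ IS) := Ideal.Quotient.nontrivial_iff.mpr (ne_top_of_le_ne_top hJ hle)
  haveI : IsLocalRing (S ⧸ IS) := IsLocalRing.of_surjective' (Ideal.Quotient.mk IS) Ideal.Quotient.mk_surjective
  letI : Algebra (R ⧸ I) (S ⧸ IS) := Ideal.Quotient.algebraQuotientMapQuotient
  letI : Algebra (S ⧸ IS) (S ⧸ J) := (Ideal.Quotient.factor hle).toAlgebra
  haveI : IsScalarTower S (S ⧸ IS) (S ⧸ J) := IsScalarTower.of_algebraMap_eq fun _ => rfl
  haveI : IsScalarTower R (R ⧸ I) (S ⧸ IS) := IsScalarTower.of_algebraMap_eq fun _ => rfl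
  haveI : IsScalarTower (R ⧸ I) (S ⧸ IS) (S ⧸ J) := IsScalarTower.of_algebraMap_eq fun y => by
    obtain ⟨y, rfl⟩ := Ideal.Quotient.mk_surjective y
    rw [← Ideal.Quotient.algebraMap_eq, ← IsScalarTower.algebraMap_apply R (R ⧸ I) (S ⧸ J)]
    rfl
  haveI : Module.Flat (R ⧸ I) (S ⧸ IS) := GrothLib.GorFlat.flat_quotient I
  haveI : IsLocalHom (algebraMap (R ⧸ I) (S ⧸ IS)) := by
    refine ((local_hom_TFAE (algebraMap (R ⧸ I) (S ⧸ IS))).out 2 0 rfl rfl).mp ?_
    rw [← GrothLib.RegLoc.map_maximalIdeal_quotient I, Ideal.map_map,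
      ← GrothLib.RegLoc.map_maximalIdeal_quotient IS]
    refine Ideal.map_le_iff_le_comap.mpr fun r hr => ?_
    exact Ideal.mem_map_of_mem _ (map_maximalIdeal_le (Ideal.mem_map_of_mem _ hr))
  have heq : (maximalIdeal (R ⧸ I)).map (algebraMap (R ⧸ I) (S ⧸ IS)) =
      ((maximalIdeal R).map (algebraMap R S)).map (Ideal.Quotient.mk IS) := by
    rw [← GrothLib.RegLoc.map_maximalIdeal_quotient I, Ideal.map_map, Ideal.map_map]
    rfl
  haveI : IsRegularLocalRing ((S ⧸ IS) ⧸ (maximalIdeal (R ⧸ I)).map (algebraMap (R ⧸ I) (S ⧸ IS))) :=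
    IsRegularLocalRing.of_ringEquiv
      ((DoubleQuot.quotQuotEquivQuotOfLE (Ideal.map_mono (le_maximalIdeal hI))).symm.trans
        (Ideal.quotEquivOfEq heq.symm))
  haveI : Module.Finite (S ⧸ IS) (S ⧸ J) :=
    Module.Finite.of_surjective (Algebra.linearMap (S ⧸ IS) (S ⧸ J)) (Ideal.Quotient.factor_surjective hle)
  exact Groth.Agent.S2199.result IS J hle hJ
    (hasFiniteTorDim_of_regular_closedFibre (A := R ⧸ I) (T := S ⧸ IS) (S ⧸ J)) x hx hxm

include I in
/-- Lower bound: generators of `I` stay independent in `J`. -/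
theorem add_spanFinrank_le (hJ : J ≠ ⊤) (hI : I ≠ ⊤) :
    I.spanFinrank + (J.map (Ideal.Quotient.mk ((maximalIdeal R).map (algebraMap R S)))).spanFinrank ≤
      J.spanFinrank := by
  classical
  set M := (maximalIdeal R).map (algebraMap R S)
  set J₀ := J.map (Ideal.Quotient.mk M)
  haveI : Module.FaithfullyFlat R S := Module.FaithfullyFlat.of_flat_of_isLocalHom
  obtain ⟨g, hg⟩ := exists_generators I
  obtain ⟨h₀, hh₀⟩ := exists_generators J₀
  have hlift : ∀ l, ∃ h ∈ J, Ideal.Quotient.mk M h = h₀ l := fun l =>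
    (Ideal.mem_map_iff_of_surjective _ Ideal.Quotient.mk_surjective).mp
      (hh₀ ▸ Ideal.subset_span ⟨l, rfl⟩ : h₀ l ∈ J₀)
  choose h hhJ hh using hlift
  have hgI : ∀ i, g i ∈ I := fun i => hg ▸ Ideal.subset_span ⟨i, rfl⟩
  have hgS : I.map (algebraMap R S) = Ideal.span (Set.range fun i => algebraMap R S (g i)) := by
    conv_lhs => rw [← hg]
    rw [Ideal.map_span, ← Set.range_comp]
    rfl
  refine indep_le_spanFinrank (Fin.append (fun i => algebraMap R S (g i)) h) (fun k => ?_) ?_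
  · refine Fin.addCases (fun i => ?_) (fun l => ?_) k
    · rw [Fin.append_left]
      exact map_le_of_tower I J (Ideal.mem_map_of_mem _ (hgI i))
    · rw [Fin.append_right]
      exact hhJ l
  intro c hc
  rw [Fin.sum_univ_add] at hc
  simp only [Fin.append_left, Fin.append_right] at hc
  have hmkM : (maximalIdeal S).map (Ideal.Quotient.mk M) = maximalIdeal (S ⧸ M) :=
    GrothLib.RegLoc.map_maximalIdeal_quotient M
  have he : ∀ l, c (Fin.natAdd I.spanFinrank l) ∈ maximalIdeal S := fun l => by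
    have h0 := Ideal.mem_map_of_mem (Ideal.Quotient.mk M) hc
    rw [Ideal.map_mul, hmkM, map_add, map_sum, map_sum] at h0
    have hg0 : ∀ i, Ideal.Quotient.mk M (algebraMap R S (g i)) = 0 := fun i =>
      Ideal.Quotient.eq_zero_iff_mem.mpr (Ideal.mem_map_of_mem _ (le_maximalIdeal hI (hgI i)))
    simp only [map_mul, hg0, mul_zero, Finset.sum_const_zero, zero_add, hh] at h0
    have h1 := indep_of_span h₀ hh₀ (by simp) (fun l => Ideal.Quotient.mk M (c (Fin.natAdd _ l))) h0 l
    by_contra hu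
    rw [IsLocalRing.notMem_maximalIdeal] at hu
    exact (IsLocalRing.notMem_maximalIdeal.mpr (hu.map (Ideal.Quotient.mk M))) h1
  intro k
  refine Fin.addCases (fun i => ?_) he k
  have hx1 : ∑ i, c (Fin.castAdd J₀.spanFinrank i) * algebraMap R S (g i) ∈ maximalIdeal S * J := by
    have h2 : ∑ l, c (Fin.natAdd I.spanFinrank l) * h l ∈ maximalIdeal S * J :=
      Ideal.sum_mem _ fun l _ => Ideal.mul_mem_mul (he l) (hhJ l)
    simpa using sub_mem hc h2
  have hx2 := mem_mul_map_of_mem_mul I J hJ hI _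
    (Ideal.sum_mem _ fun i _ => Ideal.mul_mem_left _ _ (Ideal.mem_map_of_mem _ (hgI i))) hx1
  rw [hgS, ← smul_eq_mul, Ideal.span, Submodule.mem_ideal_smul_span_iff_exists_sum] at hx2
  obtain ⟨d, hd, hsum⟩ := hx2
  rw [Finsupp.sum_fintype _ _ (fun _ => by simp)] at hsum
  have hrel : ∑ j, g j • (c (Fin.castAdd J₀.spanFinrank j) - d j) = 0 := by
    rw [← sub_eq_zero.mpr hsum.symm, ← Finset.sum_sub_distrib]
    exact Finset.sum_congr rfl fun j _ => by rw [Algebra.smul_def, smul_eq_mul]; ring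
  obtain ⟨N, a, y, hy, ha⟩ := Module.Flat.isTrivialRelation_of_sum_smul_eq_zero (R := R) (M := S)
    (f := g) (x := fun j => c (Fin.castAdd J₀.spanFinrank j) - d j) hrel
  have ham : ∀ j, a i j ∈ maximalIdeal R := fun j => by
    refine indep_of_span g hg (by simp) (fun i => a i j) ?_ i
    have h3 := ha j
    simp only [mul_comm (g _)] at h3
    rw [h3]
    exact zero_mem _
  have hci : c (Fin.castAdd J₀.spanFinrank i) = d i + ∑ j, a i j • y j := by
    rw [← show c (Fin.castAdd J₀.spanFinrank i) - d i = _ from hy i]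
    ring
  rw [hci]
  refine add_mem (hd i) (Ideal.sum_mem _ fun j _ => ?_)
  rw [Algebra.smul_def]
  exact Ideal.mul_mem_right _ _ (map_maximalIdeal_le (Ideal.mem_map_of_mem _ (ham j)))

include I in
/-- **Avramov's theorem for presented rings.** -/
theorem regular_iff_of_flat (hJ : J ≠ ⊤) (hI : I ≠ ⊤) :
    (∃ rs : List S, Ideal.ofList rs = J ∧ IsRegular S rs) ↔
      (∃ rs : List R, Ideal.ofList rs = I ∧ IsRegular R rs) ∧
        ∃ rs : List (S ⧸ (maximalIdeal R).map (algebraMap R S)),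
          Ideal.ofList rs = J.map (Ideal.Quotient.mk ((maximalIdeal R).map (algebraMap R S))) ∧
            IsRegular (S ⧸ (maximalIdeal R).map (algebraMap R S)) rs := by
  set M := (maximalIdeal R).map (algebraMap R S)
  set J₀ := J.map (Ideal.Quotient.mk M)
  haveI : IsRegularLocalRing S := GrothLib.Serre.isRegularLocalRing_of_flat_of_fibre R S inferInstance
  have hJ₀ : J₀ ≠ ⊤ := by
    refine ne_top_of_le_ne_top (maximalIdeal.isMaximal (S ⧸ M)).ne_top ?_
    rw [← GrothLib.RegLoc.map_maximalIdeal_quotient M]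
    exact Ideal.map_mono (le_maximalIdeal hJ)
  rw [regular_iff_spanFinrank_le J hJ, regular_iff_spanFinrank_le I hI, regular_iff_spanFinrank_le J₀ hJ₀]
  haveI : Nontrivial (R ⧸ I) := Ideal.Quotient.nontrivial_iff.mpr hI
  haveI : IsLocalRing (R ⧸ I) := IsLocalRing.of_surjective' (Ideal.Quotient.mk I) Ideal.Quotient.mk_surjective
  haveI : Nontrivial (S ⧸ J) := Ideal.Quotient.nontrivial_iff.mpr hJ
  haveI : IsLocalRing (S ⧸ J) := IsLocalRing.of_surjective' (Ideal.Quotient.mk J) Ideal.Quotient.mk_surjective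
  haveI : Nontrivial ((S ⧸ M) ⧸ J₀) := Ideal.Quotient.nontrivial_iff.mpr hJ₀
  haveI : IsLocalRing ((S ⧸ M) ⧸ J₀) := IsLocalRing.of_surjective' (Ideal.Quotient.mk J₀) Ideal.Quotient.mk_surjective
  haveI : IsLocalHom (algebraMap (R ⧸ I) (S ⧸ J)) := by
    refine ((local_hom_TFAE (algebraMap (R ⧸ I) (S ⧸ J))).out 2 0 rfl rfl).mp ?_
    rw [← GrothLib.RegLoc.map_maximalIdeal_quotient I, Ideal.map_map,
      ← Ideal.Quotient.algebraMap_eq, ← IsScalarTower.algebraMap_eq, IsScalarTower.algebraMap_eq R S (S ⧸ J),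
      ← Ideal.map_map, Ideal.Quotient.algebraMap_eq, ← GrothLib.RegLoc.map_maximalIdeal_quotient J]
    exact Ideal.map_mono map_maximalIdeal_le
  have hS := GrothLib.CMMor6.ringKrullDim_eq_add (A := R) (B := S)
  have hB := GrothLib.CMMor6.ringKrullDim_eq_add (A := R ⧸ I) (B := S ⧸ J)
  have hC : ringKrullDim ((S ⧸ J) ⧸ (maximalIdeal (R ⧸ I)).map (algebraMap (R ⧸ I) (S ⧸ J))) =
      ringKrullDim ((S ⧸ M) ⧸ J₀) := by
    have heq : (maximalIdeal (R ⧸ I)).map (algebraMap (R ⧸ I) (S ⧸ J)) = M.map (Ideal.Quotient.mk J) := by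
      rw [← GrothLib.RegLoc.map_maximalIdeal_quotient I, Ideal.map_map, Ideal.map_map,
        ← Ideal.Quotient.algebraMap_eq, ← Ideal.Quotient.algebraMap_eq, ← IsScalarTower.algebraMap_eq,
        ← IsScalarTower.algebraMap_eq]
    exact ringKrullDim_eq_of_ringEquiv ((Ideal.quotEquivOfEq heq).trans (DoubleQuot.quotQuotEquivComm J M))
  rw [hC] at hB
  have hk : ringKrullDim R ≤ ringKrullDim (R ⧸ I) + I.spanFinrank :=
    ringKrullDim_le_ringKrullDim_quotient_add_spanFinrank I
      ((le_maximalIdeal hI).trans (IsLocalRing.ringJacobson_eq_maximalIdeal R).ge)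
  have hk₀ : ringKrullDim (S ⧸ M) ≤ ringKrullDim ((S ⧸ M) ⧸ J₀) + J₀.spanFinrank :=
    ringKrullDim_le_ringKrullDim_quotient_add_spanFinrank J₀
      ((le_maximalIdeal hJ₀).trans (IsLocalRing.ringJacobson_eq_maximalIdeal (S ⧸ M)).ge)
  have hle := spanFinrank_le_add I J hJ
  have hge := add_spanFinrank_le I J hJ hI
  change J.spanFinrank ≤ I.spanFinrank + J₀.spanFinrank at hle
  change I.spanFinrank + J₀.spanFinrank ≤ J.spanFinrank at hge
  obtain ⟨a, ha, -⟩ := GrothLib.RegLoc.exists_dim_eq (R := R)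
  obtain ⟨b, hb, -⟩ := GrothLib.RegLoc.exists_dim_eq (R := S ⧸ M)
  obtain ⟨p, hp, -⟩ := GrothLib.RegLoc.exists_dim_eq (R := R ⧸ I)
  obtain ⟨q, hq, -⟩ := GrothLib.RegLoc.exists_dim_eq (R := (S ⧸ M) ⧸ J₀)
  rw [hS, hB, ha, hb, hp, hq]
  rw [ha, hp] at hk
  rw [hb, hq] at hk₀
  norm_cast at hk hk₀ ⊢
  omega

end GrothLib.CIPres
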