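import Groth.Agent.Lib.CIPres.Completion
import Groth.Agent.Lib.CIPres.Flat
import Groth.Agent.Lib.CIPres.Factor
import Groth.Agent.Lib.AdicExtra.Local
import Groth.Agent.Lib.GeomReg.FiniteGRing
import Groth.Agent.Lib.Ratliff.Completion

/-!
# Avramov's theorem: complete intersections along flat local homomorphisms
-/

set_option autoImplicit false

universe u

open IsLocalRing RingTheory.Sequence

namespace GrothLib.CIPres

theorem isCI_congr {A A' : Type u} [CommRing A] [IsLocalRing A] [IsNoetherianRing A] [CommRing A'] [IsLocalRing A']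
    [IsNoetherianRing A'] (e : A ≃+* A') :
    Pi1.IsCompleteIntersection A ↔ Pi1.IsCompleteIntersection A' := by
  obtain ⟨c⟩ := GrothLib.Ratliff.exists_completion_congr e
  exact ⟨fun ⟨B, _, _, rs, hm, hr, ⟨f⟩⟩ => ⟨B, inferInstance, inferInstance, rs, hm, hr, ⟨c.symm.trans f⟩⟩,
    fun ⟨B, _, _, rs, hm, hr, ⟨f⟩⟩ => ⟨B, inferInstance, inferInstance, rs, hm, hr, ⟨c.trans f⟩⟩⟩

theorem isCI_completion_iff (A : Type u) [CommRing A] [IsLocalRing A] [IsNoetherianRing A] :
    Pi1.IsCompleteIntersection (AdicCompletion (maximalIdeal A) A) ↔ Pi1.IsCompleteIntersection A := by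
  haveI : IsAdicComplete (maximalIdeal (AdicCompletion (maximalIdeal A) A)) (AdicCompletion (maximalIdeal A) A) := by
    rw [AdicCompletion.maximalIdeal_eq_map]
    exact AdicCompletion.isAdicComplete_self _ (maximalIdeal A).fg_of_isNoetherianRing
  let e := (AdicCompletion.ofAlgEquiv (maximalIdeal (AdicCompletion (maximalIdeal A) A))).toRingEquiv
  exact ⟨fun ⟨B, _, _, rs, hm, hr, ⟨f⟩⟩ => ⟨B, inferInstance, inferInstance, rs, hm, hr, ⟨e.trans f⟩⟩,
    fun ⟨B, _, _, rs, hm, hr, ⟨f⟩⟩ => ⟨B, inferInstance, inferInstance, rs, hm, hr, ⟨e.symm.trans f⟩⟩⟩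

/-- A ring presented by a regular local ring is CI iff the kernel is regular. -/
theorem isCI_iff_ker {R A : Type u} [CommRing R] [IsRegularLocalRing R] [CommRing A] [IsLocalRing A]
    [IsNoetherianRing A] (φ : R →+* A) (hφ : Function.Surjective φ) :
    Pi1.IsCompleteIntersection A ↔ ∃ rs : List R, Ideal.ofList rs = RingHom.ker φ ∧ IsRegular R rs := by
  let e := RingHom.quotientKerEquivOfSurjective hφ
  haveI : Nontrivial (R ⧸ RingHom.ker φ) := e.toEquiv.nontrivial
  haveI : IsLocalRing (R ⧸ RingHom.ker φ) := IsLocalRing.of_surjective' _ Ideal.Quotient.mk_surjective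
  rw [← isCI_congr e, isCompleteIntersection_quotient_iff _ (RingHom.ker_ne_top φ)]

section Complete

variable {A B C : Type u} [CommRing A] [CommRing B] [CommRing C] [Algebra A B] [IsLocalRing A] [IsLocalRing B]
  [IsLocalRing C] [IsNoetherianRing A] [IsNoetherianRing B] [IsNoetherianRing C] [IsLocalHom (algebraMap A B)]
  [IsAdicComplete (maximalIdeal A) A] [IsAdicComplete (maximalIdeal B) B] [Module.Flat A B]

theorem isCI_iff_of_flat_complete (e : B ⧸ (maximalIdeal A).map (algebraMap A B) ≃+* C) :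
    Pi1.IsCompleteIntersection B ↔ Pi1.IsCompleteIntersection A ∧ Pi1.IsCompleteIntersection C := by
  obtain ⟨R, S, _, _, _, _, _, _, _, _, _, hfib, φ, ψ, hφ, hψ, hcomp⟩ := exists_factorization (A := A) (B := B)
  set I := RingHom.ker φ
  set J := RingHom.ker ψ
  set M := (maximalIdeal R).map (algebraMap R S)
  let eR : R ⧸ I ≃+* A := RingHom.quotientKerEquivOfSurjective hφ
  let eS : S ⧸ J ≃+* B := RingHom.quotientKerEquivOfSurjective hψ
  have hIJ : I ≤ J.comap (algebraMap R S) := fun r hr => by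
    show ψ (algebraMap R S r) = 0
    rw [← RingHom.comp_apply, hcomp, RingHom.comp_apply, RingHom.mem_ker.mp hr, map_zero]
  letI : Algebra (R ⧸ I) (S ⧸ J) := (Ideal.quotientMap J (algebraMap R S) hIJ).toAlgebra
  haveI : IsScalarTower R (R ⧸ I) (S ⧸ J) := IsScalarTower.of_algebraMap_eq fun _ => rfl
  haveI : Module.Flat (R ⧸ I) (S ⧸ J) := by
    refine RingHom.flat_algebraMap_iff.mp ?_
    have h : algebraMap (R ⧸ I) (S ⧸ J) = eS.symm.toRingHom.comp ((algebraMap A B).comp eR.toRingHom) := by
      refine Ideal.Quotient.ringHom_ext (RingHom.ext fun r => ?_)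
      have h1 : eS (Ideal.Quotient.mk J (algebraMap R S r)) = algebraMap A B (eR (Ideal.Quotient.mk I r)) := by
        show ψ (algebraMap R S r) = algebraMap A B (φ r)
        rw [← RingHom.comp_apply, hcomp, RingHom.comp_apply]
      show Ideal.Quotient.mk J (algebraMap R S r) = eS.symm (algebraMap A B (eR (Ideal.Quotient.mk I r)))
      rw [← h1, eS.symm_apply_apply]
    rw [h]
    exact RingHom.Flat.comp (RingHom.Flat.comp (RingHom.Flat.of_bijective eR.bijective)
      (RingHom.flat_algebraMap_iff.mpr ‹_›)) (RingHom.Flat.of_bijective eS.symm.bijective)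
  haveI : IsLocalHom φ := hφ.isLocalHom
  have hm : (maximalIdeal R).map φ = maximalIdeal A :=
    IsLocalRing.map_maximalIdeal_of_surjective φ hφ
  have hM : M.map ψ = (maximalIdeal A).map (algebraMap A B) := by
    rw [Ideal.map_map, hcomp, ← Ideal.map_map, hm]
  let J₀ := J.map (Ideal.Quotient.mk M)
  let e₀ : (S ⧸ M) ⧸ J₀ ≃+* C :=
    ((DoubleQuot.quotQuotEquivComm J M).symm.trans
      (Ideal.quotientEquiv (M.map (Ideal.Quotient.mk J)) _ eS (by
        rw [← hM]
        show M.map ψ = (M.map (Ideal.Quotient.mk J)).map (eS : S ⧸ J →+* B)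
        rw [Ideal.map_map (Ideal.Quotient.mk J)]
        exact congrArg (Ideal.map · M) (RingHom.ext fun _ => rfl)))).trans e
  haveI : Nontrivial ((S ⧸ M) ⧸ J₀) := e₀.toEquiv.nontrivial
  haveI : IsLocalRing ((S ⧸ M) ⧸ J₀) := IsLocalRing.of_surjective' _ Ideal.Quotient.mk_surjective
  have hJ₀ : J₀ ≠ ⊤ := Ideal.Quotient.nontrivial_iff.mp inferInstance
  rw [isCI_iff_ker ψ hψ, isCI_iff_ker φ hφ, ← isCI_congr e₀, isCompleteIntersection_quotient_iff J₀ hJ₀]
  exact regular_iff_of_flat I J (RingHom.ker_ne_top ψ) (RingHom.ker_ne_top φ)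

end Complete

/-- **Avramov's theorem.** -/
theorem isCI_iff_of_flat {A B : Type u} [CommRing A] [CommRing B] [IsNoetherianRing A] [IsNoetherianRing B]
    [IsLocalRing A] [IsLocalRing B] [Algebra A B] [IsLocalHom (algebraMap A B)] [Module.Flat A B]
    [IsLocalRing (B ⧸ (maximalIdeal A).map (algebraMap A B))] :
    Pi1.IsCompleteIntersection B ↔
      Pi1.IsCompleteIntersection A ∧ Pi1.IsCompleteIntersection (B ⧸ (maximalIdeal A).map (algebraMap A B)) := by
  set A' := AdicCompletion (maximalIdeal A) A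
  set B' := AdicCompletion (maximalIdeal B) B
  obtain ⟨f, hf⟩ := GrothLib.GeomReg.exists_completion_map A B
  letI : Algebra A' B' := f.toAlgebra
  haveI : IsLocalHom (algebraMap A' B') := GrothLib.AdicExtra.isLocalHom_completion f hf
  haveI : Module.Flat A' B' := RingHom.flat_algebraMap_iff.mp
    ((GrothLib.AdicExtra.flat_completion_iff f hf).mpr (RingHom.flat_algebraMap_iff.mpr inferInstance))
  haveI : IsAdicComplete (maximalIdeal A') A' := by
    rw [AdicCompletion.maximalIdeal_eq_map]
    exact AdicCompletion.isAdicComplete_self _ (maximalIdeal A).fg_of_isNoetherianRing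
  haveI : IsAdicComplete (maximalIdeal B') B' := by
    rw [AdicCompletion.maximalIdeal_eq_map]
    exact AdicCompletion.isAdicComplete_self _ (maximalIdeal B).fg_of_isNoetherianRing
  obtain ⟨c⟩ := nonempty_completion_quotient ((maximalIdeal A).map (algebraMap A B))
  let e : B' ⧸ (maximalIdeal A').map (algebraMap A' B') ≃+*
      AdicCompletion (maximalIdeal (B ⧸ (maximalIdeal A).map (algebraMap A B)))
        (B ⧸ (maximalIdeal A).map (algebraMap A B)) :=
    (Ideal.quotEquivOfEq (GrothLib.AdicExtra.maximalIdeal_map_completion f hf)).trans c.symm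
  rw [← isCI_completion_iff B, ← isCI_completion_iff A,
    ← isCI_completion_iff (B ⧸ (maximalIdeal A).map (algebraMap A B))]
  exact isCI_iff_of_flat_complete e

end GrothLib.CIPres
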