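import Groth.Agent.Lib.CMFree.Params
import Groth.Agent.Lib.LCI6.Cancel
import Groth.Agent.Lib.KoszulColon.Basic

/-!
# Independence of a complete intersection presentation

If a Noetherian local ring `A` is a quotient of two regular local rings `B` and `R`, then
`μ(ker (R → A)) + dim B ≤ dim R + μ(ker (B → A))`.
-/

set_option autoImplicit false

universe u v w

open IsLocalRing RingTheory.Sequence

namespace GrothLib.CIPres

section Indep

variable {R : Type u} [CommRing R] [IsLocalRing R]

/-- The family `v` is independent modulo `m I`. -/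
def Indep (I : Ideal R) {ι : Type v} [Fintype ι] (v : ι → R) : Prop :=
  ∀ c : ι → R, ∑ i, c i * v i ∈ maximalIdeal R * I → ∀ i, c i ∈ maximalIdeal R

theorem spanFinrank_le_card {ι : Type v} [Fintype ι] (v : ι → R) :
    (Ideal.span (Set.range v)).spanFinrank ≤ Fintype.card ι := by
  refine (Submodule.spanFinrank_span_le_ncard_of_finite (Set.finite_range v)).trans ?_
  rw [← Set.image_univ]
  exact (Set.ncard_image_le Set.finite_univ).trans (by simp [Set.ncard_univ])

variable [IsNoetherianRing R]

theorem exists_generators (I : Ideal R) :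
    ∃ g : Fin I.spanFinrank → R, Ideal.span (Set.range g) = I := by
  obtain ⟨T, hT, hspan⟩ := Submodule.FG.exists_span_finset_card_eq_spanFinrank I.fg_of_isNoetherianRing
  refine ⟨fun i => (T.equivFin.symm (Fin.cast hT.symm i) : R), (congrArg Ideal.span ?_).trans hspan⟩
  ext z
  refine ⟨fun ⟨i, hi⟩ => hi ▸ (T.equivFin.symm _).2, fun hz => ⟨Fin.cast hT (T.equivFin ⟨z, hz⟩), ?_⟩⟩
  simp

theorem le_of_le_sup {I K : Ideal R} (h : I ≤ K ⊔ maximalIdeal R * I) : I ≤ K :=
  Submodule.le_of_le_smul_of_le_jacobson_bot (IsNoetherian.noetherian I)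
    (IsLocalRing.maximalIdeal_le_jacobson _) h

/-- A generating family of minimal size is independent. -/
theorem indep_of_span {I : Ideal R} {ι : Type v} [Fintype ι] (v : ι → R) (hv : Ideal.span (Set.range v) = I)
    (hcard : Fintype.card ι ≤ I.spanFinrank) : Indep I v := by
  classical
  intro c hc i
  by_contra hi
  obtain ⟨u, hu⟩ := IsLocalRing.notMem_maximalIdeal.mp hi
  let w : {j // j ≠ i} → R := fun j => v j
  have hle : I ≤ Ideal.span (Set.range w) ⊔ maximalIdeal R * I := by
    conv_lhs => rw [← hv]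
    refine Ideal.span_le.mpr ?_
    rintro _ ⟨j, rfl⟩
    by_cases hj : j = i
    · subst hj
      have h1 : c j * v j = (∑ k, c k * v k) - ∑ k ∈ Finset.univ.erase j, c k * v k := by
        rw [← Finset.add_sum_erase _ _ (Finset.mem_univ j), add_sub_cancel_right]
      have h2 : v j = (↑u⁻¹ : R) * (c j * v j) := by rw [← hu, ← mul_assoc, Units.inv_mul, one_mul]
      rw [SetLike.mem_coe, h2, h1]
      refine Ideal.mul_mem_left _ _ (sub_mem (Submodule.mem_sup_right hc) ?_)
      exact Submodule.mem_sup_left (Ideal.sum_mem _ fun k hk =>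
        Ideal.mul_mem_left _ _ (Ideal.subset_span ⟨⟨k, (Finset.mem_erase.mp hk).1⟩, rfl⟩))
    · exact Submodule.mem_sup_left (Ideal.subset_span ⟨⟨j, hj⟩, rfl⟩)
  have heq : Ideal.span (Set.range w) = I := by
    refine le_antisymm ?_ (le_of_le_sup hle)
    rw [← hv]
    exact Ideal.span_mono (by rintro _ ⟨j, rfl⟩; exact ⟨j, rfl⟩)
  have h := spanFinrank_le_card w
  rw [heq, Fintype.card_subtype_compl, Fintype.card_subtype_eq] at h
  have : 0 < Fintype.card ι := Fintype.card_pos_iff.mpr ⟨i⟩
  omega

/-- An independent family extends to a generating family of minimal size. -/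
theorem exists_extend {I : Ideal R} : ∀ {s : ℕ} (v : Fin s → R), (∀ i, v i ∈ I) → Indep I v →
    ∃ T : Finset R, T.card + s ≤ I.spanFinrank ∧ Ideal.span (Set.range v ∪ ↑T) = I := by
  classical
  intro s
  induction s with
  | zero =>
    intro v _ _
    obtain ⟨g, hg⟩ := exists_generators I
    refine ⟨Finset.univ.image g, Finset.card_image_le.trans (by simp), ?_⟩
    simpa [Set.range_eq_empty] using hg
  | succ s ih =>
    intro v hvI hv
    have hv' : Indep I (fun i : Fin s => v i.castSucc) := fun c hc i => by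
      have := hv (Fin.snoc c 0) (by simpa [Fin.sum_univ_castSucc] using hc) i.castSucc
      simpa using this
    obtain ⟨T, hT, hspan⟩ := ih _ (fun i => hvI _) hv'
    have hmem : v (Fin.last s) ∈ Ideal.span (Set.range (fun i : Fin s => v i.castSucc)) ⊔ Ideal.span (↑T : Set R) := by
      rw [← Ideal.span_union, hspan]
      exact hvI _
    obtain ⟨a, ha, b, hb, hab⟩ := Submodule.mem_sup.mp hmem
    obtain ⟨c, rfl⟩ := Ideal.mem_span_range_iff_exists_fun.mp ha
    obtain ⟨d, -, rfl⟩ := Submodule.mem_span_finset.mp hb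
    by_cases hd : ∀ t ∈ T, d t ∈ maximalIdeal R
    · exfalso
      have := hv (Fin.snoc (fun i => - c i) 1) ?_ (Fin.last s)
      · rw [Fin.snoc_last] at this
        exact (maximalIdeal.isMaximal R).ne_top ((Ideal.eq_top_iff_one _).mpr this)
      · rw [Fin.sum_univ_castSucc]
        simp only [Fin.snoc_castSucc, Fin.snoc_last, one_mul, ← hab, neg_mul, Finset.sum_neg_distrib, smul_eq_mul,
          neg_add_cancel_left]
        exact Ideal.sum_mem _ fun t ht => Ideal.mul_mem_mul (hd t ht) (hspan ▸ Ideal.subset_span (Or.inr ht))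
    · push Not at hd
      obtain ⟨t, ht, htu⟩ := hd
      obtain ⟨u, hu⟩ := IsLocalRing.notMem_maximalIdeal.mp htu
      refine ⟨T.erase t, ?_, le_antisymm (Ideal.span_le.mpr ?_) ?_⟩
      · rw [Finset.card_erase_of_mem ht]
        have : 0 < T.card := Finset.card_pos.mpr ⟨t, ht⟩
        omega
      · rintro x (⟨i, rfl⟩ | hx)
        · exact hvI i
        · exact hspan ▸ Ideal.subset_span (Or.inr (Finset.mem_erase.mp hx).2)
      · conv_lhs => rw [← hspan]
        refine Ideal.span_le.mpr ?_
        rintro x (⟨i, rfl⟩ | hx)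
        · exact Ideal.subset_span (Or.inl ⟨i.castSucc, rfl⟩)
        · by_cases hxt : x = t
          · subst hxt
            have h1 : d x * x = v (Fin.last s) - ∑ i, c i * v i.castSucc - ∑ k ∈ T.erase x, d k * k := by
              rw [← hab, ← Finset.add_sum_erase _ _ hx]
              simp only [smul_eq_mul]
              ring
            have h2 : x = (↑u⁻¹ : R) * (d x * x) := by rw [← hu, ← mul_assoc, Units.inv_mul, one_mul]
            suffices h3 : d x * x ∈ Ideal.span (Set.range v ∪ ↑(T.erase x)) by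
              have h4 := Ideal.mul_mem_left _ (↑u⁻¹ : R) h3
              rwa [← h2] at h4
            rw [h1]
            refine sub_mem (sub_mem ?_ ?_) ?_
            · exact Ideal.subset_span (Or.inl ⟨_, rfl⟩)
            · exact Ideal.sum_mem _ fun i _ => Ideal.mul_mem_left _ _ (Ideal.subset_span (Or.inl ⟨_, rfl⟩))
            · exact Ideal.sum_mem _ fun k hk => Ideal.mul_mem_left _ _ (Ideal.subset_span (Or.inr hk))
          · exact Ideal.subset_span (Or.inr (Finset.mem_erase.mpr ⟨hxt, hx⟩))

theorem indep_le_spanFinrank {I : Ideal R} {s : ℕ} (v : Fin s → R) (hvI : ∀ i, v i ∈ I) (hv : Indep I v) :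
    s ≤ I.spanFinrank := by
  obtain ⟨T, hT, -⟩ := exists_extend v hvI hv
  omega

end Indep

/-- An ideal of a regular local ring with few generators is generated by a regular sequence, and conversely. -/
theorem regular_iff_spanFinrank_le {R : Type u} [CommRing R] [IsRegularLocalRing R] (I : Ideal R) (hI : I ≠ ⊤) :
    (∃ rs : List R, Ideal.ofList rs = I ∧ IsRegular R rs) ↔
      (I.spanFinrank : WithBot ℕ∞) + ringKrullDim (R ⧸ I) ≤ ringKrullDim R := by
  constructor
  · rintro ⟨rs, rfl, hrs⟩
    rw [← ringKrullDim_add_length_eq_ringKrullDim_of_isRegular rs hrs, add_comm]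
    refine add_le_add le_rfl ?_
    have h : Ideal.span (Set.range rs.get) = Ideal.ofList rs := by
      rw [Set.range_list_get]
    have := spanFinrank_le_card rs.get
    rw [h, Fintype.card_fin] at this
    exact_mod_cast this
  · intro h
    obtain ⟨g, hg⟩ := exists_generators I
    have heq : Ideal.ofList (List.ofFn g) = I :=
      (congrArg Ideal.span (Set.ext fun x => List.mem_ofFn)).trans hg
    refine ⟨List.ofFn g, heq, GrothLib.CMFree.isRegular_of_ringKrullDim_quotient R _ (heq.trans_ne hI) ?_⟩
    rw [heq, List.length_ofFn, add_comm]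
    exact h

/-- A regular system of parameters is H1-regular. -/
theorem isH1Regular_generators {R : Type u} [CommRing R] [IsRegularLocalRing R] {n : ℕ} (y : Fin n → R)
    (hy : Ideal.span (Set.range y) = maximalIdeal R) (hn : n ≤ (maximalIdeal R).spanFinrank) :
    CAlgX.IsH1Regular y := by
  let z : Fin n → R := fun i => y (Fin.rev i)
  have heq : Ideal.ofList (List.ofFn y).reverse = maximalIdeal R := by
    rw [← hy]
    exact congrArg Ideal.span (Set.ext fun x => List.mem_reverse.trans List.mem_ofFn)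
  refine LCI6.isH1Regular_ofFn y (GrothLib.KoszulColon.isKoszulRegularSeq_of_isWeaklyRegular _ ?_)
  refine (GrothLib.CMFree.isRegular_of_ringKrullDim_quotient R _
    (heq ▸ (maximalIdeal.isMaximal R).ne_top) ?_).toIsWeaklyRegular
  rw [heq, List.length_reverse, List.length_ofFn]
  letI := Ideal.Quotient.field (maximalIdeal R)
  rw [ringKrullDim_eq_zero_of_field, zero_add, ← IsRegularLocalRing.spanFinrank_maximalIdeal]
  exact_mod_cast hn

theorem range_append {α : Type*} {m n : ℕ} (a : Fin m → α) (b : Fin n → α) :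
    Set.range (Fin.append a b) = Set.range a ∪ Set.range b := by
  ext z
  constructor
  · rintro ⟨i, rfl⟩
    refine Fin.addCases (fun i => ?_) (fun i => ?_) i
    · exact Or.inl ⟨i, (Fin.append_left _ _ _).symm⟩
    · exact Or.inr ⟨i, (Fin.append_right _ _ _).symm⟩
  · rintro (⟨i, rfl⟩ | ⟨i, rfl⟩)
    exacts [⟨_, Fin.append_left _ _ _⟩, ⟨_, Fin.append_right _ _ _⟩]

section Compare

variable {A B R : Type u} [CommRing A] [CommRing B] [CommRing R]
  [IsNoetherianRing A] [IsLocalRing A] [IsRegularLocalRing B] [IsRegularLocalRing R]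
  (φ : R →+* A) (hφ : Function.Surjective φ) (ψ : B →+* A) (hψ : Function.Surjective ψ)

include hφ in
theorem comap_maximalIdeal : (maximalIdeal A).comap φ = maximalIdeal R := by
  haveI := Ideal.comap_isMaximal_of_surjective φ hφ (K := maximalIdeal A)
  exact IsLocalRing.eq_maximalIdeal this

include hφ in
/-- Minimal generators of the maximal ideal of a quotient, completed by elements of the kernel. -/
theorem exists_adapted {e : ℕ} (g : Fin e → A) (hg : Ideal.span (Set.range g) = maximalIdeal A)
    (he : e ≤ (maximalIdeal A).spanFinrank) :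
    ∃ (x : Fin e → R) (s : ℕ) (w : Fin s → R), (∀ i, φ (x i) = g i) ∧ (∀ i, φ (w i) = 0) ∧
      e + s ≤ (maximalIdeal R).spanFinrank ∧ Ideal.span (Set.range (Fin.append x w)) = maximalIdeal R := by
  classical
  choose x hx using fun i => hφ (g i)
  have hm := comap_maximalIdeal φ hφ
  have hxm : ∀ i, x i ∈ maximalIdeal R := fun i => by
    rw [← hm, Ideal.mem_comap, hx, ← hg]
    exact Ideal.subset_span ⟨i, rfl⟩
  have hindep : Indep (maximalIdeal R) x := fun c hc i => by
    rw [← hm, Ideal.mem_comap]
    refine indep_of_span g hg (by simpa using he) (fun i => φ (c i)) ?_ i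
    have := Ideal.mem_map_of_mem φ hc
    rw [Ideal.map_mul, map_sum] at this
    simp only [map_mul, hx] at this
    exact Ideal.mul_mono (hm ▸ Ideal.map_comap_le) (hm ▸ Ideal.map_comap_le) this
  obtain ⟨T, hT, hspan⟩ := exists_extend x hxm hindep
  let t : Fin T.card → R := fun k => T.equivFin.symm k
  have hrel : ∀ k, ∃ c : Fin e → R, φ (t k - ∑ i, c i * x i) = 0 := fun k => by
    have htm : φ (t k) ∈ Ideal.span (Set.range g) := by
      rw [hg, ← Ideal.mem_comap, hm, ← hspan]
      exact Ideal.subset_span (Or.inr (T.equivFin.symm k).2)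
    obtain ⟨a, ha⟩ := Ideal.mem_span_range_iff_exists_fun.mp htm
    choose c hc using fun i => hφ (a i)
    exact ⟨c, by simp [map_sum, hc, hx, ha]⟩
  choose c hc using hrel
  refine ⟨x, T.card, fun k => t k - ∑ i, c k i * x i, hx, hc, by omega, ?_⟩
  rw [range_append, Ideal.span_union]
  conv_rhs => rw [← hspan, Ideal.span_union]
  refine le_antisymm (sup_le le_sup_left (Ideal.span_le.mpr ?_)) (sup_le le_sup_left (Ideal.span_le.mpr ?_))
  · rintro _ ⟨k, rfl⟩
    exact sub_mem (Submodule.mem_sup_right (Ideal.subset_span (T.equivFin.symm k).2))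
      (Ideal.sum_mem _ fun i _ => Submodule.mem_sup_left (Ideal.mul_mem_left _ _ (Ideal.subset_span ⟨i, rfl⟩)))
  · intro z hz
    have hz' : z = (t (T.equivFin ⟨z, hz⟩) - ∑ i, c (T.equivFin ⟨z, hz⟩) i * x i) +
        ∑ i, c (T.equivFin ⟨z, hz⟩) i * x i := by simp [t]
    rw [SetLike.mem_coe, hz']
    exact add_mem (Submodule.mem_sup_right (Ideal.subset_span ⟨_, rfl⟩))
      (Ideal.sum_mem _ fun i _ => Submodule.mem_sup_left (Ideal.mul_mem_left _ _ (Ideal.subset_span ⟨i, rfl⟩)))

include hφ hψ in
/-- Comparison of the numbers of generators of the kernels of two regular presentations. -/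
theorem spanFinrank_ker_add_le :
    (RingHom.ker φ).spanFinrank + (maximalIdeal B).spanFinrank ≤
      (maximalIdeal R).spanFinrank + (RingHom.ker ψ).spanFinrank := by
  classical
  obtain ⟨e, g, hg, he⟩ : ∃ (e : ℕ) (g : Fin e → A),
      Ideal.span (Set.range g) = maximalIdeal A ∧ e ≤ (maximalIdeal A).spanFinrank :=
    (exists_generators (maximalIdeal A)).elim fun g hg => ⟨_, g, hg, le_rfl⟩
  obtain ⟨x, s, w, hx, hw, hsx, hxw⟩ := exists_adapted φ hφ g hg he
  obtain ⟨y, s', w', hy, hw', hsy, hyw⟩ := exists_adapted ψ hψ g hg he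
  have hcard : e + s' ≤ (maximalIdeal B).spanFinrank := hsy
  have hH1 : CAlgX.IsH1Regular (Fin.append y w') := isH1Regular_generators _ hyw hcard
  have hIm : RingHom.ker φ ≤ maximalIdeal R := le_maximalIdeal (RingHom.ker_ne_top φ)
  have hJm : RingHom.ker ψ ≤ maximalIdeal B := le_maximalIdeal (RingHom.ker_ne_top ψ)
  have hindep : Indep (RingHom.ker ψ) w' := fun c hc i => by
    have := indep_of_span (Fin.append y w') hyw (by simpa using hcard) (Fin.append 0 c) (by
      rw [Fin.sum_univ_add]
      simpa using Ideal.mul_mono_right hJm hc) (Fin.natAdd e i)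
    simpa using this
  obtain ⟨T, hT, hTspan⟩ := exists_extend w' hw' hindep
  have hrel : ∀ t : T, ∃ b : Fin (e + s') → B, ∑ l, b l * Fin.append y w' l = t := fun t => by
    refine Ideal.mem_span_range_iff_exists_fun.mp ?_
    rw [hyw]
    exact hJm (hTspan ▸ Ideal.subset_span (Or.inr t.2))
  choose b hb using hrel
  choose a ha using fun (t : T) (l : Fin e) => hφ (ψ (b t (Fin.castAdd s' l)))
  let h : T → R := fun t => ∑ l, a t l * x l
  have hψy : ∀ l : Fin e, ψ (Fin.append y w' (Fin.castAdd s' l)) = g l := fun l => by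
    rw [Fin.append_left, hy]
  have hψw : ∀ l : Fin s', ψ (Fin.append y w' (Fin.natAdd e l)) = 0 := fun l => by
    rw [Fin.append_right, hw']
  have hh : ∀ t, φ (h t) = 0 := fun t => by
    have h0 : ψ (∑ l, b t l * Fin.append y w' l) = 0 := by
      rw [hb]
      exact RingHom.mem_ker.mp (hTspan ▸ Ideal.subset_span (Or.inr t.2))
    rw [map_sum, Fin.sum_univ_add] at h0
    simp only [map_mul, hψy, hψw, mul_zero, Finset.sum_const_zero, add_zero] at h0
    simp [h, map_sum, ha, hx, h0]
  let K := Ideal.span (Set.range (Sum.elim w h))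
  let S := Ideal.span (Set.range w) ⊔ Ideal.span (Set.range h)
  have hKS : K = S := by
    show Ideal.span _ = _ ⊔ _
    rw [← Ideal.span_union, Set.Sum.elim_range]
  have hle : RingHom.ker φ ≤ K ⊔ maximalIdeal R * RingHom.ker φ := by
    intro z hz
    obtain ⟨c, hc⟩ := Ideal.mem_span_range_iff_exists_fun.mp (hxw.symm ▸ hIm hz)
    rw [Fin.sum_univ_add] at hc
    simp only [Fin.append_left, Fin.append_right] at hc
    have hz0 : ∑ l, φ (c (Fin.castAdd s l)) * g l = 0 := by
      have : φ z = 0 := hz
      rw [← hc, map_add, map_sum, map_sum] at this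
      simpa [hx, hw] using this
    choose c' hc' using fun l : Fin e => hψ (φ (c (Fin.castAdd s l)))
    have hJ : ∑ l, c' l * y l ∈ Ideal.span (Set.range w') ⊔ Ideal.span (↑T : Set B) := by
      rw [← Ideal.span_union, hTspan, RingHom.mem_ker, map_sum]
      simpa [hc', hy] using hz0
    obtain ⟨p, hp, q, hq, hpq⟩ := Submodule.mem_sup.mp hJ
    obtain ⟨vv, rfl⟩ := Ideal.mem_span_range_iff_exists_fun.mp hp
    obtain ⟨u, hu⟩ : ∃ u : T → B, q = ∑ t : T, u t * t := by
      obtain ⟨f, -, rfl⟩ := Submodule.mem_span_finset.mp hq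
      exact ⟨fun t => f t, (Finset.sum_coe_sort T (fun t => f t * t)).symm⟩
    have hker : ∑ l, (Fin.append c' (fun k => - vv k) l - ∑ t, u t * b t l) * Fin.append y w' l = 0 := by
      simp only [sub_mul, Finset.sum_sub_distrib, Finset.sum_mul]
      rw [Finset.sum_comm (f := fun l t => u t * b t l * Fin.append y w' l), Fin.sum_univ_add]
      simp only [mul_assoc, ← Finset.mul_sum, hb, Fin.append_left, Fin.append_right, neg_mul,
        Finset.sum_neg_distrib, ← hu, ← hpq]
      ring
    have hspan := hH1 _ hker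
    have hQ : ∀ k ∈ Submodule.span B {v : Fin (e + s') → B | ∃ i j,
        v = Pi.single i (Fin.append y w' j) - Pi.single j (Fin.append y w' i)},
        ∃ d : Fin e → R, (∀ l, φ (d l) = ψ (k (Fin.castAdd s' l))) ∧ ∑ l, d l * x l = 0 := by
      intro k hk
      induction hk using Submodule.span_induction with
      | mem k hk =>
        obtain ⟨i, j, rfl⟩ := hk
        refine Fin.addCases (fun i' => ?_) (fun i' => ?_) i <;> refine Fin.addCases (fun j' => ?_) (fun j' => ?_) j
        · refine ⟨Pi.single i' (x j') - Pi.single j' (x i'), fun l => ?_, ?_⟩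
          · simp [Pi.single_apply, apply_ite φ, apply_ite ψ, hx, hy]
          · simp [sub_mul, Finset.sum_sub_distrib, Pi.single_apply, ite_mul, mul_comm (x i') (x j')]
        all_goals refine ⟨0, fun l => ?_, by simp⟩
        all_goals simp [Pi.single_apply, apply_ite ψ, hw', Fin.ext_iff]
        all_goals omega
      | zero => exact ⟨0, by simp, by simp⟩
      | add k₁ k₂ _ _ h₁ h₂ =>
        obtain ⟨d₁, h₁, h₁'⟩ := h₁
        obtain ⟨d₂, h₂, h₂'⟩ := h₂
        exact ⟨d₁ + d₂, fun l => by simp [h₁, h₂], by simp [add_mul, Finset.sum_add_distrib, h₁', h₂']⟩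
      | smul r k _ hk =>
        obtain ⟨d, hd, hd'⟩ := hk
        obtain ⟨r', hr'⟩ := hφ (ψ r)
        exact ⟨fun l => r' * d l, fun l => by simp [hd, hr'], by simp [mul_assoc, ← Finset.mul_sum, hd']⟩
    obtain ⟨d, hd, hd'⟩ := hQ _ hspan
    choose u' hu' using fun t => hφ (ψ (u t))
    have hdiff : ∀ l, c (Fin.castAdd s l) - d l - ∑ t, u' t * a t l ∈ RingHom.ker φ := fun l => by
      simp [RingHom.mem_ker, hd, hu', ha, map_sum, Fin.append_left, hc']
    have hz' : z = (∑ l, (c (Fin.castAdd s l) - d l - ∑ t, u' t * a t l) * x l) +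
        ((∑ t, u' t * h t) + ∑ k, c (Fin.natAdd e k) * w k) := by
      simp only [h, sub_mul, Finset.sum_sub_distrib, Finset.sum_mul, Finset.mul_sum, ← mul_assoc]
      rw [Finset.sum_comm (f := fun l t => u' t * a t l * x l), ← hc, hd']
      ring
    rw [hz']
    refine add_mem (Ideal.sum_mem _ fun l _ => ?_) (Submodule.mem_sup_left (add_mem ?_ ?_))
    · rw [mul_comm _ (x l)]
      refine Submodule.mem_sup_right (Ideal.mul_mem_mul ?_ (hdiff l))
      rw [← hxw]
      exact Ideal.subset_span ⟨Fin.castAdd s l, Fin.append_left _ _ _⟩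
    · exact Ideal.sum_mem _ fun t _ => Ideal.mul_mem_left _ _ (Ideal.subset_span ⟨Sum.inr t, rfl⟩)
    · exact Ideal.sum_mem _ fun k _ => Ideal.mul_mem_left _ _ (Ideal.subset_span ⟨Sum.inl k, rfl⟩)
  have hK : K = RingHom.ker φ := le_antisymm
    (Ideal.span_le.mpr (by rintro _ ⟨k | t, rfl⟩; exacts [hw k, hh t])) (le_of_le_sup hle)
  have h1 := spanFinrank_le_card (Sum.elim w h)
  rw [show Ideal.span (Set.range (Sum.elim w h)) = RingHom.ker φ from hK, Fintype.card_sum, Fintype.card_fin,
    Fintype.card_coe] at h1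
  have h2 : (maximalIdeal B).spanFinrank ≤ e + s' := by
    have := spanFinrank_le_card (Fin.append y w')
    rwa [hyw, Fintype.card_fin] at this
  omega

include hφ hψ in
/-- If `A` is a complete intersection in `B`, its kernel in every regular presentation is regular. -/
theorem exists_isRegular_ker (h : ∃ rs : List B, Ideal.ofList rs = RingHom.ker ψ ∧ IsRegular B rs) :
    ∃ rs : List R, Ideal.ofList rs = RingHom.ker φ ∧ IsRegular R rs := by
  have hB := (regular_iff_spanFinrank_le _ (RingHom.ker_ne_top ψ)).mp h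
  refine (regular_iff_spanFinrank_le _ (RingHom.ker_ne_top φ)).mpr ?_
  rw [ringKrullDim_eq_of_ringEquiv (RingHom.quotientKerEquivOfSurjective hψ)] at hB
  rw [ringKrullDim_eq_of_ringEquiv (RingHom.quotientKerEquivOfSurjective hφ)]
  have hle := spanFinrank_ker_add_le φ hφ ψ hψ
  rw [← IsRegularLocalRing.spanFinrank_maximalIdeal (R := B)] at hB
  rw [← IsRegularLocalRing.spanFinrank_maximalIdeal (R := R)]
  obtain ⟨D, hD⟩ : ∃ D : WithBot ℕ∞, ringKrullDim A = D := ⟨_, rfl⟩
  rw [hD] at hB ⊢
  induction D with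
  | bot => simp
  | coe d =>
    induction d with
    | top =>
      exfalso
      rw [show ((((RingHom.ker ψ).spanFinrank : ℕ) : WithBot ℕ∞)) + ((⊤ : ℕ∞) : WithBot ℕ∞) =
        ((((RingHom.ker ψ).spanFinrank : ℕ∞) + ⊤ : ℕ∞) : WithBot ℕ∞) from rfl, add_top] at hB
      exact absurd (WithBot.coe_le_coe.mp hB) (by simp)
    | coe d =>
      norm_cast at hB ⊢
      omega

end Compare

end GrothLib.CIPres
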