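import Groth.Agent.Lib.CIPres.Basic
import Groth.Agent.Lib.RegExch.Basic
import Mathlib.RingTheory.Flat.EquationalCriterion
import Mathlib.RingTheory.Flat.FaithfullyFlat.Algebra

/-!
# Descent of ideals generated by regular sequences
-/

set_option autoImplicit false

universe u

open IsLocalRing RingTheory.Sequence

namespace GrothLib.CIPres

variable {P Q : Type u} [CommRing P] [CommRing Q] [Algebra P Q] [IsLocalRing P] [IsLocalRing Q]
  [IsNoetherianRing P] [IsNoetherianRing Q] [IsLocalHom (algebraMap P Q)] [Module.Flat P Q]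

/-- Minimal generators stay independent in a flat local extension. -/
theorem indep_map {I : Ideal P} {n : ℕ} (g : Fin n → P) (hg : Ideal.span (Set.range g) = I)
    (hn : n ≤ I.spanFinrank) : Indep (I.map (algebraMap P Q)) fun i => algebraMap P Q (g i) := by
  intro c hc i
  have hmS : (maximalIdeal P).map (algebraMap P Q) ≤ maximalIdeal Q :=
    ((local_hom_TFAE (algebraMap P Q)).out 0 2 rfl rfl).mp inferInstance
  have hgS : I.map (algebraMap P Q) = Ideal.span (Set.range fun i => algebraMap P Q (g i)) := by
    conv_lhs => rw [← hg]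
    rw [Ideal.map_span, ← Set.range_comp]
    rfl
  rw [hgS, ← smul_eq_mul, Ideal.span, Submodule.mem_ideal_smul_span_iff_exists_sum] at hc
  obtain ⟨d, hd, hsum⟩ := hc
  rw [Finsupp.sum_fintype _ _ (fun _ => by simp)] at hsum
  have hrel : ∑ j, g j • (c j - d j) = 0 := by
    rw [← sub_eq_zero.mpr hsum.symm, ← Finset.sum_sub_distrib]
    exact Finset.sum_congr rfl fun j _ => by rw [Algebra.smul_def, smul_eq_mul]; ring
  obtain ⟨N, a, y, hy, ha⟩ := Module.Flat.isTrivialRelation_of_sum_smul_eq_zero (R := P) (M := Q)
    (f := g) (x := fun j => c j - d j) hrel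
  have ham : ∀ j, a i j ∈ maximalIdeal P := fun j => by
    refine indep_of_span g hg (by simpa using hn) (fun i => a i j) ?_ i
    have h3 := ha j
    simp only [mul_comm (g _)] at h3
    rw [h3]
    exact zero_mem _
  have hci : c i = d i + ∑ j, a i j • y j := by
    rw [← show c i - d i = _ from hy i]
    ring
  rw [hci]
  refine add_mem (hd i) (Ideal.sum_mem _ fun j _ => ?_)
  rw [Algebra.smul_def]
  exact Ideal.mul_mem_right _ _ (hmS (Ideal.mem_map_of_mem _ (ham j)))

/-- Weak regularity descends along faithfully flat extensions. -/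
theorem isWeaklyRegular_of_map [Module.FaithfullyFlat P Q] (l : List P)
    (h : IsWeaklyRegular Q (l.map (algebraMap P Q))) : IsWeaklyRegular P l := by
  rw [GrothLib.RegSeqLoc.isWeaklyRegular_iff_mem] at h ⊢
  intro i hi x hx
  have h' := h i (by simpa using hi) (algebraMap P Q x)
  rw [← List.map_take, List.getElem_map, ← map_mul, ← Ideal.map_ofList, ← Ideal.mem_comap,
    Ideal.comap_map_eq_self_of_faithfullyFlat, ← Ideal.mem_comap, Ideal.comap_map_eq_self_of_faithfullyFlat] at h'
  exact h' hx

/-- An ideal whose extension is generated by a regular sequence is generated by one. -/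
theorem exists_isRegular_of_map (I : Ideal P) (hI : I ≠ ⊤)
    (h : ∃ rs : List Q, Ideal.ofList rs = I.map (algebraMap P Q) ∧ IsRegular Q rs) :
    ∃ rs : List P, Ideal.ofList rs = I ∧ IsRegular P rs := by
  classical
  haveI : Module.FaithfullyFlat P Q := Module.FaithfullyFlat.of_flat_of_isLocalHom
  obtain ⟨xs, hxs, hreg⟩ := h
  obtain ⟨g, hg⟩ := exists_generators I
  have heq : Ideal.ofList (List.ofFn g) = I :=
    (congrArg Ideal.span (Set.ext fun x => List.mem_ofFn)).trans hg
  let g' : Fin I.spanFinrank → Q := fun i => algebraMap P Q (g i)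
  have hind : Indep (I.map (algebraMap P Q)) g' := indep_map g hg le_rfl
  have hmem : ∀ x ∈ xs, x ∈ maximalIdeal Q := fun x hx => by
    have : x ∈ I.map (algebraMap P Q) := hxs ▸ Ideal.subset_span hx
    exact ((Ideal.map_mono (le_maximalIdeal hI)).trans
      (((local_hom_TFAE (algebraMap P Q)).out 0 2 rfl rfl).mp inferInstance)) this
  obtain ⟨gs, hgs, -⟩ := GrothLib.RegExch.exists_extend (List.ofFn g') xs hreg.toIsWeaklyRegular hmem
    (fun x hx => by
      obtain ⟨i, rfl⟩ := List.mem_ofFn.mp hx
      rw [hxs]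
      exact Ideal.mem_map_of_mem _ (hg ▸ Ideal.subset_span ⟨i, rfl⟩))
    (fun l₁ x l₂ hsp hx => by
      rw [hxs] at hx
      obtain ⟨a, ha, b, hb, hab⟩ := Submodule.mem_sup.mp hx
      have hlen : l₁.length < I.spanFinrank := by
        have := congrArg List.length hsp
        simp at this
        omega
      set i : Fin I.spanFinrank := ⟨l₁.length, hlen⟩
      have hxi : x = g' i := by
        have h1 : (l₁ ++ x :: l₂)[l₁.length]'(by simp) = x := by simp
        rw [← h1]
        simp only [← hsp, List.getElem_ofFn]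
        rfl
      have hl₁ : Ideal.ofList l₁ ≤ Ideal.span (Set.range fun j : {j // j ≠ i} => g' j) := by
        refine Ideal.span_le.mpr fun z (hz : z ∈ l₁) => ?_
        obtain ⟨k, hk, rfl⟩ := List.getElem_of_mem hz
        refine Ideal.subset_span ⟨⟨⟨k, hk.trans hlen⟩, fun hh => hk.ne (congrArg Fin.val hh)⟩, ?_⟩
        have h1 : (l₁ ++ x :: l₂)[k]'(by simp; omega) = l₁[k] := List.getElem_append_left hk
        rw [← h1]
        simp only [← hsp, List.getElem_ofFn]
      haveI : Fintype {j : Fin I.spanFinrank // j ≠ i} := Subtype.fintype _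
      obtain ⟨c, hc⟩ := Ideal.mem_span_range_iff_exists_fun.mp (hl₁ ha)
      let c' : Fin I.spanFinrank → Q := fun j => if hj : j = i then 1 else - c ⟨j, hj⟩
      have hsum : ∑ j, c' j * g' j = b := by
        rw [← Finset.add_sum_erase _ _ (Finset.mem_univ i),
          Finset.sum_subtype (Finset.univ.erase i) (F := inferInstance) (p := fun j => j ≠ i) (fun j => by simp) (fun j => c' j * g' j)]
        have : ∀ j : {j // j ≠ i}, c' j * g' j = -(c j * g' j) := fun j => by simp [c', j.2]
        simp only [this, Finset.sum_neg_distrib, hc, c', dif_pos, one_mul, ← hxi, ← hab]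
        ring
      have := hind c' (hsum.symm ▸ hb) i
      rw [show c' i = 1 from dif_pos rfl] at this
      exact (maximalIdeal.isMaximal Q).ne_top ((Ideal.eq_top_iff_one _).mpr this))
  refine ⟨List.ofFn g, heq, IsRegular.of_isWeaklyRegular_of_mem_maximalIdeal P
    (fun r hr => le_maximalIdeal hI (heq ▸ Ideal.subset_span hr)) (isWeaklyRegular_of_map (Q := Q) _ ?_)⟩
  rw [List.map_ofFn]
  exact ((isWeaklyRegular_append_iff Q _ gs).mp hgs).1

end GrothLib.CIPres
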