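import Groth.Agent.Lib.CIPres.TorFin
import Groth.Agent.Lib.CIPres.Descent
import Groth.Agent.Lib.CIPres.Avramov
import Groth.Agent.Lib.CIField.Regular
import Groth.Agent.Lib.LCI6.KoszulPerfect
import Groth.Agent.Lib.NLAmp.TorDim
import Groth.Agent.Lib.PerfHom.Tor
import Groth.Agent.S2200

/-!
# Regular sequences and finite tor dimension over a flat map with regular closed fibre
-/

set_option autoImplicit false

universe u

open IsLocalRing RingTheory.Sequence

namespace GrothLib.CIPres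

/-- The quotient by a regular sequence has finite tor dimension. -/
theorem hasFiniteTorDim_quotient_regular {T : Type u} [CommRing T] [IsLocalRing T] [IsNoetherianRing T]
    (rs : List T) (h : IsWeaklyRegular T rs) : DRing.HasFiniteTorDim T (T ⧸ Ideal.ofList rs) := by
  have hp := GrothLib.LCI6.isPerfectModule_quotient rs
    (GrothLib.KoszulFwd.isKoszulRegularSeq_of_isWeaklyRegular rs h)
  obtain ⟨-, htor⟩ := GrothLib.DR.isPerfect_iff.1 hp
  obtain ⟨d, hd⟩ := GrothLib.DR.exists_torDim htor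
  exact ⟨d, (GrothLib.KF.hasTorDimLE_iff _ d).2 hd⟩

/-- Regular sequences of a quotient lift. -/
theorem exists_isRegular_lift {S : Type u} [CommRing S] [IsLocalRing S] [IsNoetherianRing S] (as : List S)
    (K J : Ideal S) (hK : Ideal.ofList as = K) (hJ : J ≠ ⊤) (hle : K ≤ J) (ha : IsWeaklyRegular S as)
    (h : ∃ rs' : List (S ⧸ K), Ideal.ofList rs' = J.map (Ideal.Quotient.mk K) ∧ IsRegular (S ⧸ K) rs') :
    ∃ rs : List S, Ideal.ofList rs = J ∧ IsRegular S rs := by
  subst hK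
  obtain ⟨rs', hrs', hreg⟩ := h
  obtain ⟨bs, rfl⟩ := List.map_surjective_iff.mpr Ideal.Quotient.mk_surjective rs'
  have hJeq : Ideal.ofList (as ++ bs) = J := by
    rw [Ideal.ofList_append]
    rw [← Ideal.map_ofList] at hrs'
    have h2 := congrArg (Ideal.comap (Ideal.Quotient.mk (Ideal.ofList as))) hrs'
    rw [Ideal.comap_map_of_surjective _ Ideal.Quotient.mk_surjective,
      Ideal.comap_map_of_surjective _ Ideal.Quotient.mk_surjective, ← RingHom.ker_eq_comap_bot, Ideal.mk_ker,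
      sup_eq_left.mpr hle] at h2
    rw [sup_comm]
    exact h2
  exact ⟨as ++ bs, hJeq, IsRegular.of_isWeaklyRegular_of_mem_maximalIdeal S
    (fun r hr => le_maximalIdeal hJ (hJeq ▸ Ideal.subset_span hr))
    (GrothLib.CIField.isWeaklyRegular_append ha hreg.toIsWeaklyRegular)⟩

/-- A complete intersection modulo a regular sequence is one. -/
theorem isCI_quotient {S : Type u} [CommRing S] [IsLocalRing S] [IsNoetherianRing S]
    (h : Pi1.IsCompleteIntersection S) (rs : List S) (hrs : IsRegular S rs)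
    [IsLocalRing (S ⧸ Ideal.ofList rs)] : Pi1.IsCompleteIntersection (S ⧸ Ideal.ofList rs) := by
  obtain ⟨P, _, _, ps, hmP, hps, ⟨e⟩⟩ := h
  change AdicCompletion (maximalIdeal S) S ≃+* P ⧸ Ideal.ofList ps at e
  obtain ⟨ec⟩ := nonempty_completion_quotient (Ideal.ofList rs)
  set Q := AdicCompletion (maximalIdeal S) S
  haveI : Module.FaithfullyFlat S Q := Module.FaithfullyFlat.of_flat_of_isLocalHom
  have hQ : IsWeaklyRegular Q (rs.map (algebraMap S Q)) := hrs.toIsWeaklyRegular.of_flat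
  have hP := GrothLib.CIField.isWeaklyRegular_ringEquiv e _ hQ
  obtain ⟨bs, hbs⟩ := List.map_surjective_iff.mpr (Ideal.Quotient.mk_surjective (I := Ideal.ofList ps))
    ((rs.map (algebraMap S Q)).map e)
  rw [← hbs] at hP
  have hw : IsWeaklyRegular P (ps ++ bs) := GrothLib.CIField.isWeaklyRegular_append hps.toIsWeaklyRegular hP
  have hSne : Ideal.ofList rs ≠ ⊤ := Ideal.Quotient.nontrivial_iff.mp inferInstance
  have hmem : ∀ r ∈ ps ++ bs, r ∈ maximalIdeal P := by
    intro r hr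
    rcases List.mem_append.mp hr with h1 | h1
    · exact hmP r h1
    · haveI : Nontrivial (P ⧸ Ideal.ofList ps) := e.symm.toEquiv.nontrivial
      haveI : IsLocalRing (P ⧸ Ideal.ofList ps) :=
        IsLocalRing.of_surjective' _ Ideal.Quotient.mk_surjective
      haveI : IsLocalHom (Ideal.Quotient.mk (Ideal.ofList ps)) :=
        IsLocalHom.of_surjective _ Ideal.Quotient.mk_surjective
      intro hu
      have h2 : Ideal.Quotient.mk (Ideal.ofList ps) r ∈ ((rs.map (algebraMap S Q)).map e) := by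
        rw [← hbs]
        exact List.mem_map_of_mem h1
      obtain ⟨q, hq, he⟩ := List.mem_map.mp h2
      obtain ⟨s, hs, rfl⟩ := List.mem_map.mp hq
      have h3 : IsUnit (e (algebraMap S Q s)) := he ▸ hu.map _
      exact le_maximalIdeal hSne (Ideal.subset_span hs)
        (isUnit_of_map_unit (algebraMap S Q) s ((isUnit_map_iff e _).mp h3))
  refine ⟨P, inferInstance, inferInstance, ps ++ bs, hmem,
    IsRegular.of_isWeaklyRegular_of_mem_maximalIdeal P hmem hw, ⟨?_⟩⟩
  refine ec.trans ((Ideal.quotientEquiv _ _ e ?_).trans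
    ((DoubleQuot.quotQuotEquivQuotSup (Ideal.ofList ps) (Ideal.ofList bs)).trans
      (Ideal.quotEquivOfEq (Ideal.ofList_append ps bs).symm)))
  rw [Ideal.map_ofList, Ideal.map_ofList, hbs, Ideal.map_ofList]
  rfl

/-- A regular local ring is a complete intersection. -/
theorem isCI_of_regular (R : Type u) [CommRing R] [IsRegularLocalRing R] : Pi1.IsCompleteIntersection R :=
  (isCI_iff_ker (RingHom.id R) Function.surjective_id).mpr
    ⟨[], Ideal.ofList_nil.trans ((RingHom.injective_iff_ker_eq_bot _).mp Function.injective_id).symm,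
      IsRegular.nil R R⟩

section Relative

variable {R S : Type u} [CommRing R] [CommRing S] [IsNoetherianRing R] [IsNoetherianRing S] [IsLocalRing R]
  [IsLocalRing S] [Algebra R S] [IsLocalHom (algebraMap R S)] [Module.Flat R S]
  [IsRegularLocalRing (S ⧸ (maximalIdeal R).map (algebraMap R S))]
  (I : Ideal R) (J : Ideal S) (hI : I ≠ ⊤) (hJ : J ≠ ⊤) (hIJ : I.map (algebraMap R S) ≤ J)
  [Algebra (R ⧸ I) (S ⧸ J)] [IsScalarTower R (R ⧸ I) (S ⧸ J)]

include hI hJ hIJ in
theorem regular_of_tor_finite (hreg : ∃ rs : List S, Ideal.ofList rs = J ∧ IsRegular S rs)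
    (hfin : Set.Finite {p : ℕ | ¬Subsingleton (DRing.Tor (R ⧸ I) p (S ⧸ J)
        ((R ⧸ I) ⧸ (maximalIdeal R).map (Ideal.Quotient.mk I)))}) :
    (∃ rs : List R, Ideal.ofList rs = I ∧ IsRegular R rs) ∧
      ∃ rs' : List (S ⧸ I.map (algebraMap R S)),
        Ideal.ofList rs' = J.map (Ideal.Quotient.mk (I.map (algebraMap R S))) ∧
          IsRegular (S ⧸ I.map (algebraMap R S)) rs' := by
  let IS := I.map (algebraMap R S)
  haveI : Nontrivial (R ⧸ I) := Ideal.Quotient.nontrivial_iff.mpr hI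
  haveI : IsLocalRing (R ⧸ I) := IsLocalRing.of_surjective' (Ideal.Quotient.mk I) Ideal.Quotient.mk_surjective
  haveI : Nontrivial (S ⧸ IS) := Ideal.Quotient.nontrivial_iff.mpr (ne_top_of_le_ne_top hJ hIJ)
  haveI : IsLocalRing (S ⧸ IS) := IsLocalRing.of_surjective' (Ideal.Quotient.mk IS) Ideal.Quotient.mk_surjective
  letI : Algebra (R ⧸ I) (S ⧸ IS) := Ideal.Quotient.algebraQuotientMapQuotient
  letI : Algebra (S ⧸ IS) (S ⧸ J) := (Ideal.Quotient.factor hIJ).toAlgebra
  haveI : IsScalarTower S (S ⧸ IS) (S ⧸ J) := IsScalarTower.of_algebraMap_eq fun _ => rfl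
  haveI : IsScalarTower R (R ⧸ I) (S ⧸ IS) := IsScalarTower.of_algebraMap_eq fun _ => rfl
  haveI : IsScalarTower (R ⧸ I) (S ⧸ IS) (S ⧸ J) := IsScalarTower.of_algebraMap_eq fun y => by
    obtain ⟨y, rfl⟩ := Ideal.Quotient.mk_surjective y
    rw [← Ideal.Quotient.algebraMap_eq, ← IsScalarTower.algebraMap_apply R (R ⧸ I) (S ⧸ J)]
    rfl
  haveI : Module.Flat (R ⧸ I) (S ⧸ IS) := GrothLib.GorFlat.flat_quotient I
  haveI : IsLocalHom (algebraMap (R ⧸ I) (S ⧸ IS)) := by
    refine ((local_hom_TFAE (algebraMap (R ⧸ I) (S ⧸ IS))).out 2 0 rfl rfl).mp ?_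
    rw [← GrothLib.RegLoc.map_maximalIdeal_quotient I, Ideal.map_map,
      ← GrothLib.RegLoc.map_maximalIdeal_quotient IS]
    refine Ideal.map_le_iff_le_comap.mpr fun r hr => ?_
    exact Ideal.mem_map_of_mem _
      (((local_hom_TFAE (algebraMap R S)).out 0 2 rfl rfl).mp inferInstance (Ideal.mem_map_of_mem _ hr))
  have heq : (maximalIdeal (R ⧸ I)).map (algebraMap (R ⧸ I) (S ⧸ IS)) =
      ((maximalIdeal R).map (algebraMap R S)).map (Ideal.Quotient.mk IS) := by
    rw [← GrothLib.RegLoc.map_maximalIdeal_quotient I, Ideal.map_map, Ideal.map_map]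
    rfl
  haveI : IsRegularLocalRing ((S ⧸ IS) ⧸ (maximalIdeal (R ⧸ I)).map (algebraMap (R ⧸ I) (S ⧸ IS))) :=
    IsRegularLocalRing.of_ringEquiv
      ((DoubleQuot.quotQuotEquivQuotOfLE (Ideal.map_mono (le_maximalIdeal hI))).symm.trans
        (Ideal.quotEquivOfEq heq.symm))
  rw [GrothLib.RegLoc.map_maximalIdeal_quotient I] at hfin
  let ε : (Fin 1 → S ⧸ IS) →ₗ[S ⧸ IS] S ⧸ J := Algebra.linearMap (S ⧸ IS) (S ⧸ J) ∘ₗ LinearMap.proj 0
  have hε : Function.Surjective ε := fun b => by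
    obtain ⟨t, ht⟩ := Ideal.Quotient.factor_surjective hIJ b
    exact ⟨fun _ => t, ht⟩
  have hfd := hasFiniteTorDim_of_tor_residue (A := R ⧸ I) (T := S ⧸ IS) (M := S ⧸ J) ε hε hfin
  obtain ⟨h1, h2⟩ := Groth.Agent.S2200.result IS J hIJ hJ hfd hreg
  exact ⟨exists_isRegular_of_map (Q := S) I hI h1, h2⟩

include hI hJ hIJ in
theorem regular_torDim_of_regular (h₁ : ∃ rs : List R, Ideal.ofList rs = I ∧ IsRegular R rs)
    (h₂ : ∃ rs' : List (S ⧸ I.map (algebraMap R S)),
        Ideal.ofList rs' = J.map (Ideal.Quotient.mk (I.map (algebraMap R S))) ∧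
          IsRegular (S ⧸ I.map (algebraMap R S)) rs') :
    (∃ rs : List S, Ideal.ofList rs = J ∧ IsRegular S rs) ∧ DRing.HasFiniteTorDim (R ⧸ I) (S ⧸ J) := by
  obtain ⟨rs, hrs, hreg⟩ := h₁
  have hIS : Ideal.ofList (rs.map (algebraMap R S)) = I.map (algebraMap R S) := by rw [← Ideal.map_ofList, hrs]
  refine ⟨exists_isRegular_lift _ _ J hIS hJ hIJ hreg.toIsWeaklyRegular.of_flat h₂, ?_⟩
  obtain ⟨rs', hrs', hreg'⟩ := h₂
  let IS := I.map (algebraMap R S)
  haveI : Nontrivial (S ⧸ IS) := Ideal.Quotient.nontrivial_iff.mpr (ne_top_of_le_ne_top hJ hIJ)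
  haveI : IsLocalRing (S ⧸ IS) := IsLocalRing.of_surjective' (Ideal.Quotient.mk IS) Ideal.Quotient.mk_surjective
  letI : Algebra (R ⧸ I) (S ⧸ IS) := Ideal.Quotient.algebraQuotientMapQuotient
  letI : Algebra (S ⧸ IS) (S ⧸ J) := (Ideal.Quotient.factor hIJ).toAlgebra
  haveI : IsScalarTower R (R ⧸ I) (S ⧸ IS) := IsScalarTower.of_algebraMap_eq fun _ => rfl
  haveI : IsScalarTower (R ⧸ I) (S ⧸ IS) (S ⧸ J) := IsScalarTower.of_algebraMap_eq fun y => by
    obtain ⟨y, rfl⟩ := Ideal.Quotient.mk_surjective y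
    rw [← Ideal.Quotient.algebraMap_eq, ← IsScalarTower.algebraMap_apply R (R ⧸ I) (S ⧸ J)]
    rfl
  haveI : Module.Flat (R ⧸ I) (S ⧸ IS) := GrothLib.GorFlat.flat_quotient I
  let l : (S ⧸ IS) →ₗ[S ⧸ IS] S ⧸ J := Algebra.linearMap (S ⧸ IS) (S ⧸ J)
  have hker : Ideal.ofList rs' = LinearMap.ker l := by
    rw [hrs', ← Ideal.Quotient.factor_ker hIJ]
    rfl
  let e : ((S ⧸ IS) ⧸ Ideal.ofList rs') ≃ₗ[S ⧸ IS] S ⧸ J :=
    (Submodule.quotEquivOfEq _ _ hker).trans (l.quotKerEquivOfSurjective (Ideal.Quotient.factor_surjective hIJ))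
  obtain ⟨d, hd⟩ := hasFiniteTorDim_quotient_regular rs' hreg'.toIsWeaklyRegular
  exact GrothLib.PHom.finiteTorDim_trans (A := R ⧸ I) (B := S ⧸ IS)
    (GrothLib.PHom.finiteTorDim_of_flat (S ⧸ IS)) ⟨d, GrothLib.PHom.torDimLE_of_equiv e hd⟩

end Relative

end GrothLib.CIPres
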