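import Groth.Agent.Lib.CIPres.Avramov
import Groth.Agent.Lib.CIPres.Relative
import Groth.Agent.Lib.GorFlat.Fibres
import Groth.Agent.Lib.FlatOff.FibRing

/-!
# Complete intersection fibres and composition with regular maps
-/

set_option autoImplicit false
set_option linter.style.haveILetI false
universe u

open IsLocalRing TensorProduct

namespace GrothLib.CIPres

/-- All local rings are complete intersections. -/
def IsCIRing (A : Type u) [CommRing A] : Prop :=
  ∀ (P : Ideal A) [P.IsPrime], Pi1.IsCompleteIntersection (Localization.AtPrime P)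

theorem IsCIRing.of_ringEquiv {A A' : Type u} [CommRing A] [CommRing A'] [IsNoetherianRing A] [IsNoetherianRing A']
    (e : A ≃+* A') (h : IsCIRing A) : IsCIRing A' := fun P _ => by
  let Q := P.comap e.toRingHom
  exact (isCI_congr (IsLocalization.ringEquivOfRingEquiv (M := Q.primeCompl) (T := P.primeCompl)
    (Localization.AtPrime Q) (Localization.AtPrime P) e (by
    ext x
    constructor
    · rintro ⟨y, hy, rfl⟩
      exact hy
    · intro hx
      exact ⟨e.symm x, fun h => hx (by simpa [Q] using h), e.apply_symm_apply x⟩))).mp (h Q)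

theorem isCIRing_of_isRegularRing (A : Type u) [CommRing A] [IsRegularRing A] : IsCIRing A := fun P _ => by
  haveI : IsRegularLocalRing (Localization.AtPrime P) := IsRegularRing.isRegularLocalRing_localization _
  exact isCI_of_regular _

/-- Avramov's theorem at a prime of a flat Noetherian algebra. -/
theorem isCI_atPrime_iff {A B : Type u} [CommRing A] [CommRing B] [Algebra A B] [IsNoetherianRing A]
    [IsNoetherianRing B] [Module.Flat A B] (P : Ideal B) [P.IsPrime] [IsLocalRing (EGA4.FibLocRing A B P)] :
    Pi1.IsCompleteIntersection (Localization.AtPrime P) ↔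
      (Pi1.IsCompleteIntersection (Localization.AtPrime (P.comap (algebraMap A B))) ∧
        Pi1.IsCompleteIntersection (EGA4.FibLocRing A B P)) := by
  let p := P.comap (algebraMap A B)
  haveI : P.LiesOver p := ⟨rfl⟩
  letI := Localization.AtPrime.algebraOfLiesOver p P
  haveI := Excellent.flat_localization (A := A) P p
  haveI : IsLocalHom (algebraMap (Localization.AtPrime p) (Localization.AtPrime P)) := by
    refine ((IsLocalRing.local_hom_TFAE _).out 0 2).2 ?_
    rw [Excellent.map_maximalIdeal_eq P p]
    refine Ideal.map_le_iff_le_comap.2 fun x hx => ?_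
    rw [Ideal.mem_comap, IsScalarTower.algebraMap_apply A B (Localization.AtPrime P),
      IsLocalization.AtPrime.to_map_mem_maximal_iff _ P]
    exact hx
  let ε : Localization.AtPrime P ⧸ (maximalIdeal (Localization.AtPrime p)).map
      (algebraMap (Localization.AtPrime p) (Localization.AtPrime P)) ≃+* EGA4.FibLocRing A B P :=
    Ideal.quotEquivOfEq (Excellent.map_maximalIdeal_eq P p)
  haveI : Nontrivial (Localization.AtPrime P ⧸ (maximalIdeal (Localization.AtPrime p)).map
      (algebraMap (Localization.AtPrime p) (Localization.AtPrime P))) := ε.toEquiv.nontrivial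
  haveI : IsLocalRing (Localization.AtPrime P ⧸ (maximalIdeal (Localization.AtPrime p)).map
      (algebraMap (Localization.AtPrime p) (Localization.AtPrime P))) :=
    IsLocalRing.of_surjective' _ Ideal.Quotient.mk_surjective
  rw [isCI_iff_of_flat (A := Localization.AtPrime p) (B := Localization.AtPrime P)]
  exact and_congr_right' (isCI_congr ε)

/-- A flat algebra with CI fibres over a CI ring is CI. -/
theorem isCIRing_of_fibres {A B : Type u} [CommRing A] [CommRing B] [Algebra A B] [IsNoetherianRing A]
    [IsNoetherianRing B] [Module.Flat A B] (hA : IsCIRing A) (h : ∀ (p : Ideal A) [p.IsPrime], IsCIRing (p.Fiber B)) :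
    IsCIRing B := fun P _ => by
  haveI : IsLocalRing (EGA4.FibLocRing A B P) := GrothLib.FlatOff.isLocalRing_fibLocRing _
  refine (isCI_atPrime_iff (A := A) P).2 ⟨hA _, ?_⟩
  obtain ⟨Q, ⟨e⟩⟩ := Excellent.exists_fibre_point (A := A) P
  haveI : Algebra.EssFiniteType A (P.comap (algebraMap A B)).ResidueField := inferInstance
  haveI : IsNoetherianRing (B ⊗[A] (P.comap (algebraMap A B)).ResidueField) :=
    Algebra.EssFiniteType.isNoetherianRing B _
  haveI : IsNoetherianRing ((P.comap (algebraMap A B)).Fiber B) :=
    isNoetherianRing_of_ringEquiv (B ⊗[A] (P.comap (algebraMap A B)).ResidueField)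
      (Algebra.TensorProduct.comm A B (P.comap (algebraMap A B)).ResidueField).toRingEquiv
  exact (isCI_congr e).mp (h _ Q.asIdeal)

/-- A regular algebra over a CI ring, base changed: CI. -/
theorem isCIRing_tensor_of_isRegularHom {B C : Type u} [CommRing B] [CommRing C] [Algebra B C]
    (h : CAlg.IsRegularHom B C) (B' : Type u) [CommRing B'] [Algebra B B'] [Algebra.EssFiniteType B B']
    [IsNoetherianRing B'] (hB' : IsCIRing B') [IsNoetherianRing (B' ⊗[B] C)] : IsCIRing (B' ⊗[B] C) := by
  haveI := h.1
  refine isCIRing_of_fibres hB' fun Q _ => ?_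
  haveI : Algebra.EssFiniteType B Q.ResidueField := .comp B B' _
  haveI := GeomReg.isRegularRing_field_tensor h Q.ResidueField
  haveI : IsRegularRing (Q.Fiber (B' ⊗[B] C)) := IsRegularRing.of_ringEquiv (R := Q.ResidueField ⊗[B] C)
    (Algebra.TensorProduct.cancelBaseChange B B' B' Q.ResidueField C).symm.toRingEquiv
  exact isCIRing_of_isRegularRing _

/-- Composition with a regular map preserves CI fibres. -/
theorem isCIRing_fiber_comp {A B C : Type u} [CommRing A] [CommRing B] [CommRing C] [Algebra A B]
    [Algebra B C] [Algebra A C] [IsScalarTower A B C] [IsNoetherianRing B] [IsNoetherianRing C]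
    (q : Ideal A) [q.IsPrime] (hAB : IsCIRing (q.Fiber B)) (hBC : CAlg.IsRegularHom B C) :
    IsCIRing (q.Fiber C) := by
  let e : q.Fiber C ≃+* (B ⊗[A] q.ResidueField) ⊗[B] C :=
    (Algebra.TensorProduct.comm A q.ResidueField C).toRingEquiv.trans
      ((Algebra.TensorProduct.cancelBaseChange A B C C q.ResidueField).symm.toRingEquiv.trans
        (Algebra.TensorProduct.comm B C (B ⊗[A] q.ResidueField)).toRingEquiv)
  haveI : IsNoetherianRing (B ⊗[A] q.ResidueField) := Algebra.EssFiniteType.isNoetherianRing B _
  haveI : IsNoetherianRing (C ⊗[A] q.ResidueField) := Algebra.EssFiniteType.isNoetherianRing C _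
  haveI : IsNoetherianRing (q.Fiber C) :=
    isNoetherianRing_of_ringEquiv (C ⊗[A] q.ResidueField) (Algebra.TensorProduct.comm A C q.ResidueField).toRingEquiv
  haveI : IsNoetherianRing (q.Fiber B) :=
    isNoetherianRing_of_ringEquiv (B ⊗[A] q.ResidueField) (Algebra.TensorProduct.comm A B q.ResidueField).toRingEquiv
  haveI : IsNoetherianRing ((B ⊗[A] q.ResidueField) ⊗[B] C) := isNoetherianRing_of_ringEquiv _ e
  exact (isCIRing_tensor_of_isRegularHom hBC _
    (hAB.of_ringEquiv (Algebra.TensorProduct.comm A q.ResidueField B).toRingEquiv)).of_ringEquiv e.symm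

end GrothLib.CIPres
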