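import Groth.Agent.Lib.CIPres.Avramov
import Groth.Agent.Lib.Serre.Ring
import Mathlib.RingTheory.RingHom.Surjective
import Mathlib.RingTheory.RingHom.Flat

/-!
# Localizations of complete intersections
-/

set_option autoImplicit false

universe u

open IsLocalRing RingTheory.Sequence

namespace GrothLib.CIPres

/-- The kernel of the local map of a surjection. -/
theorem ker_localRingHom {R S : Type u} [CommRing R] [CommRing S] (f : R →+* S) (hf : Function.Surjective f)
    (P : Ideal S) [P.IsPrime] :
    RingHom.ker (Localization.localRingHom (P.comap f) P f rfl) =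
      (RingHom.ker f).map (algebraMap R (Localization.AtPrime (P.comap f))) := by
  refine le_antisymm (fun z hz => ?_) (Ideal.map_le_iff_le_comap.2 fun x hx => ?_)
  · obtain ⟨a, s, rfl⟩ := IsLocalization.exists_mk'_eq (P.comap f).primeCompl z
    rw [RingHom.mem_ker, Localization.localRingHom_mk', IsLocalization.mk'_eq_zero_iff] at hz
    obtain ⟨⟨m, hm⟩, hma⟩ := hz
    obtain ⟨m, rfl⟩ := hf m
    have hxmem : m * a ∈ RingHom.ker f := by rw [RingHom.mem_ker, map_mul]; exact hma
    rw [IsLocalization.mk'_mem_iff]
    have := Ideal.mem_map_of_mem (algebraMap R (Localization.AtPrime (P.comap f))) hxmem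
    rw [map_mul] at this
    exact (Ideal.unit_mul_mem_iff_mem _
      (IsLocalization.map_units (Localization.AtPrime (P.comap f)) (⟨m, hm⟩ : (P.comap f).primeCompl))).1 this
  · rw [Ideal.mem_comap, RingHom.mem_ker, Localization.localRingHom_to_map, RingHom.mem_ker.mp hx, map_zero]

/-- Local rings of a quotient of a regular ring by a regular sequence are complete intersections. -/
theorem isCI_atPrime_of_quotient {R S : Type u} [CommRing R] [IsRegularRing R] [CommRing S] [IsNoetherianRing S]
    (f : R →+* S) (hf : Function.Surjective f) (rs : List R) (hrs : IsWeaklyRegular R rs)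
    (hker : Ideal.ofList rs = RingHom.ker f) (P : Ideal S) [P.IsPrime] :
    Pi1.IsCompleteIntersection (Localization.AtPrime P) := by
  let L := Localization.AtPrime (P.comap f)
  haveI : IsRegularLocalRing L := inferInstance
  let g : L →+* Localization.AtPrime P := Localization.localRingHom (P.comap f) P f rfl
  refine (isCI_iff_ker g (RingHom.surjective_localRingHom_of_surjective f hf P)).mpr
    ⟨rs.map (algebraMap R L), ?_, hrs.of_flat, ?_⟩
  · rw [ker_localRingHom f hf P, ← hker, Ideal.map_ofList]
  · intro h
    refine RingHom.ker_ne_top g ?_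
    rw [ker_localRingHom f hf P, ← hker, Ideal.map_ofList]
    simpa [Ideal.mul_top, eq_comm] using h

/-- Localizations of a complete intersection are complete intersections. -/
theorem isCI_localization {A : Type u} [CommRing A] [IsNoetherianRing A] [IsLocalRing A]
    (hA : Pi1.IsCompleteIntersection A) (p : Ideal A) [p.IsPrime] :
    Pi1.IsCompleteIntersection (Localization.AtPrime p) := by
  obtain ⟨B, _, _, rs, -, hrs, ⟨e⟩⟩ := hA
  let A' := AdicCompletion (maximalIdeal A) A
  haveI : Module.FaithfullyFlat A A' := Module.FaithfullyFlat.of_flat_of_isLocalHom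
  obtain ⟨⟨P, hP⟩, hPp⟩ := PrimeSpectrum.comap_surjective_of_faithfullyFlat (A := A) (B := A') ⟨p, inferInstance⟩
  haveI := hP
  have hp : p = P.comap (algebraMap A A') := (congrArg PrimeSpectrum.asIdeal hPp).symm
  subst hp
  haveI := GrothLib.Serre.isRegularRing_of_isRegularLocalRing B
  let f : B →+* A' := e.symm.toRingHom.comp (Ideal.Quotient.mk _)
  have hkf : Ideal.ofList rs = RingHom.ker f := by
    rw [RingHom.ker_comp_of_injective _ e.symm.injective, Ideal.mk_ker]
  have hCI : Pi1.IsCompleteIntersection (Localization.AtPrime P) :=
    isCI_atPrime_of_quotient f (e.symm.surjective.comp Ideal.Quotient.mk_surjective) rs hrs.toIsWeaklyRegular hkf P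
  let g := Localization.localRingHom (P.comap (algebraMap A A')) P (algebraMap A A') rfl
  letI : Algebra (Localization.AtPrime (P.comap (algebraMap A A'))) (Localization.AtPrime P) := g.toAlgebra
  haveI : IsLocalHom (algebraMap (Localization.AtPrime (P.comap (algebraMap A A'))) (Localization.AtPrime P)) :=
    Localization.isLocalHom_localRingHom _ _ _ _
  haveI : Module.Flat (Localization.AtPrime (P.comap (algebraMap A A'))) (Localization.AtPrime P) :=
    RingHom.flat_algebraMap_iff.mp (RingHom.Flat.localRingHom (RingHom.flat_algebraMap_iff.mpr inferInstance) P (P.comap (algebraMap A A')) rfl)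
  have hle := ((local_hom_TFAE (algebraMap (Localization.AtPrime (P.comap (algebraMap A A'))) (Localization.AtPrime P))).out
    0 2 rfl rfl).mp inferInstance
  haveI : Nontrivial (Localization.AtPrime P ⧸
      (maximalIdeal (Localization.AtPrime (P.comap (algebraMap A A')))).map
        (algebraMap (Localization.AtPrime (P.comap (algebraMap A A'))) (Localization.AtPrime P))) :=
    Ideal.Quotient.nontrivial_iff.mpr (ne_top_of_le_ne_top (maximalIdeal.isMaximal _).ne_top hle)
  haveI : IsLocalRing (Localization.AtPrime P ⧸
      (maximalIdeal (Localization.AtPrime (P.comap (algebraMap A A')))).map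
        (algebraMap (Localization.AtPrime (P.comap (algebraMap A A'))) (Localization.AtPrime P))) :=
    IsLocalRing.of_surjective' (Ideal.Quotient.mk _) Ideal.Quotient.mk_surjective
  exact ((isCI_iff_of_flat (A := Localization.AtPrime (P.comap (algebraMap A A'))) (B := Localization.AtPrime P)).mp hCI).1

/-- Complete intersection at all primes follows from the maximal ideals. -/
theorem isCI_atPrime_iff_atMaximal {A : Type u} [CommRing A] [IsNoetherianRing A] :
    (∀ (p : Ideal A) [p.IsPrime], Pi1.IsCompleteIntersection (Localization.AtPrime p)) ↔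
      (∀ (m : Ideal A) [m.IsMaximal], Pi1.IsCompleteIntersection (Localization.AtPrime m)) := by
  refine ⟨fun h m _ => h m, fun h p hp => ?_⟩
  obtain ⟨m, hm, hle⟩ := Ideal.exists_le_maximal p hp.ne_top
  haveI := hm
  let Am := Localization.AtPrime m
  let P := p.map (algebraMap A Am)
  have hd : Disjoint (m.primeCompl : Set A) (p : Set A) := Set.disjoint_left.mpr fun x hx hxp => hx (hle hxp)
  haveI hP : P.IsPrime := IsLocalization.isPrime_of_isPrime_disjoint m.primeCompl Am p hp hd
  have hc : P.comap (algebraMap A Am) = p := IsLocalization.under_map_of_isPrime_disjoint m.primeCompl Am hp hd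
  have hCI := isCI_localization (h m) P
  haveI : IsLocalization.AtPrime (Localization.AtPrime P) (P.comap (algebraMap A Am)) :=
    IsLocalization.isLocalization_isLocalization_atPrime_isLocalization m.primeCompl _ P
  haveI : IsLocalization.AtPrime (Localization.AtPrime P) p := by
    convert (inferInstance : IsLocalization.AtPrime (Localization.AtPrime P) (P.comap (algebraMap A Am))) using 1
    exact hc.symm
  exact (isCI_congr (IsLocalization.algEquiv p.primeCompl (Localization.AtPrime P)
    (Localization.AtPrime p)).toRingEquiv).mp hCI

end GrothLib.CIPres
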