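import Groth.Agent.Lib.CIPres.Fibres
import Groth.Agent.Lib.CIPres.Localize
import Mathlib.RingTheory.Localization.BaseChange
import Mathlib.RingTheory.Localization.LocalizationLocalization
import Mathlib.RingTheory.PolynomialAlgebra
import Mathlib.FieldTheory.IntermediateField.Adjoin.Basic

/-!
# Complete intersections and base change along finitely generated field extensions
-/

set_option autoImplicit false
set_option linter.style.haveILetI false
universe u

open IsLocalRing TensorProduct Polynomial
open scoped IntermediateField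

namespace GrothLib.CIPres

theorem IsCIRing.of_isLocalization {S S' : Type u} [CommRing S] [CommRing S'] [Algebra S S'] [IsNoetherianRing S]
    (M : Submonoid S) [IsLocalization M S'] (h : IsCIRing S) : IsCIRing S' := fun P _ => by
  haveI : IsNoetherianRing S' := IsLocalization.isNoetherianRing M S' inferInstance
  let p := P.comap (algebraMap S S')
  haveI : IsLocalization.AtPrime (Localization.AtPrime P) p :=
    IsLocalization.isLocalization_isLocalization_atPrime_isLocalization M (Localization.AtPrime P) P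
  exact (isCI_congr (IsLocalization.algEquiv p.primeCompl (Localization.AtPrime p)
    (Localization.AtPrime P)).toRingEquiv).mp (h p)

/-- Passing to the fraction field preserves complete intersection after a field base change. -/
theorem isCIRing_fraction_tensor {E F A : Type u} [Field E] [Field F] [Algebra E F] [CommRing A] [Algebra E A]
    [Algebra A F] [IsScalarTower E A F] [IsFractionRing A F] (κ : Type u) [Field κ] [Algebra E κ]
    [IsNoetherianRing (A ⊗[E] κ)] (hA : IsCIRing (A ⊗[E] κ)) : IsCIRing (κ ⊗[E] F) := by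
  let M := Algebra.algebraMapSubmonoid (A ⊗[E] κ) (nonZeroDivisors A)
  have hloc : IsCIRing (F ⊗[A] (A ⊗[E] κ)) := by
    letI : Algebra (A ⊗[E] κ) (F ⊗[A] (A ⊗[E] κ)) := Algebra.TensorProduct.rightAlgebra
    exact hA.of_isLocalization M
  let e' : F ⊗[A] (A ⊗[E] κ) ≃+* κ ⊗[E] F :=
    (Algebra.TensorProduct.cancelBaseChange E A F F κ).toRingEquiv.trans
      (Algebra.TensorProduct.comm E F κ).toRingEquiv
  haveI : IsNoetherianRing (F ⊗[A] (A ⊗[E] κ)) := by
    letI : Algebra (A ⊗[E] κ) (F ⊗[A] (A ⊗[E] κ)) := Algebra.TensorProduct.rightAlgebra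
    exact IsLocalization.isNoetherianRing M _ inferInstance
  haveI : IsNoetherianRing (κ ⊗[E] F) := isNoetherianRing_of_ringEquiv _ e'
  exact hloc.of_ringEquiv e'

/-- A simple field extension is a complete intersection over every field. -/
theorem isCIRing_simple {E F : Type u} [Field E] [Field F] [Algebra E F] (a : F) (ha : E⟮a⟯ = ⊤)
    (κ : Type u) [Field κ] [Algebra E κ] : IsCIRing (κ ⊗[E] F) := by
  obtain ⟨f, hf⟩ : ∃ f, RingHom.ker (aeval (R := E) a).toRingHom = Ideal.span {f} :=
    ⟨_, (Submodule.IsPrincipal.span_singleton_generator _).symm⟩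
  let A := E[X] ⧸ Ideal.span {f}
  let φ : A →ₐ[E] F := Ideal.Quotient.liftₐ _ (aeval a) (fun x hx => by rw [← hf] at hx; exact hx)
  letI : Algebra A F := φ.toRingHom.toAlgebra
  haveI : IsScalarTower E A F := IsScalarTower.of_algebraMap_eq fun x => (φ.commutes x).symm
  haveI : FaithfulSMul A F := (faithfulSMul_iff_algebraMap_injective A F).mpr
    ((injective_iff_map_eq_zero φ).mpr fun z hz => by
      obtain ⟨p, rfl⟩ := Ideal.Quotient.mk_surjective z
      exact Ideal.Quotient.eq_zero_iff_mem.mpr (hf.le hz))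
  haveI : IsFractionRing A F := IsFractionRing.of_field A F fun z => by
    obtain ⟨r, s, rfl⟩ := (IntermediateField.mem_adjoin_simple_iff (α := a) E z).mp (by rw [ha]; trivial)
    exact ⟨Ideal.Quotient.mk _ r, Ideal.Quotient.mk _ s, rfl⟩
  let P := E[X] ⊗[E] κ
  haveI : IsNoetherianRing P := isNoetherianRing_of_ringEquiv κ[X]
    ((polyEquivTensor E κ).toRingEquiv.trans (Algebra.TensorProduct.comm E κ E[X]).toRingEquiv)
  haveI : IsRegularRing P := IsRegularRing.of_ringEquiv (R := κ[X])
    ((polyEquivTensor E κ).toRingEquiv.trans (Algebra.TensorProduct.comm E κ E[X]).toRingEquiv)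
  let I := (Ideal.span {f}).map (algebraMap E[X] P)
  let e : P ⧸ I ≃+* A ⊗[E] κ :=
    (Algebra.TensorProduct.quotIdealMapEquivTensorQuot P (Ideal.span {f})).toRingEquiv.trans
      ((Algebra.TensorProduct.comm E[X] P A).toRingEquiv.trans
        (Algebra.TensorProduct.cancelBaseChange E E[X] E[X] A κ).toRingEquiv)
  have hq : IsCIRing (P ⧸ I) := fun Q _ => by
    by_cases h0 : f = 0
    · refine isCI_atPrime_of_quotient (Ideal.Quotient.mk I) Ideal.Quotient.mk_surjective []
        (RingTheory.Sequence.IsWeaklyRegular.nil _ _) ?_ Q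
      rw [Ideal.mk_ker, Ideal.ofList_nil]
      simp [I, h0]
    · refine isCI_atPrime_of_quotient (Ideal.Quotient.mk I) Ideal.Quotient.mk_surjective [algebraMap E[X] P f]
        ?_ ?_ Q
      · exact RingTheory.Sequence.IsWeaklyRegular.of_flat (S := P) (rs := [f])
          ((RingTheory.Sequence.isWeaklyRegular_singleton_iff _ _).mpr
            (IsSMulRegular.of_ne_zero (R := E[X]) (M := E[X]) h0))
      · rw [Ideal.mk_ker, Ideal.ofList_singleton]
        simp [I, Ideal.map_span]
  have hA : IsCIRing (A ⊗[E] κ) := by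
    haveI : IsNoetherianRing (A ⊗[E] κ) := isNoetherianRing_of_ringEquiv _ e
    exact hq.of_ringEquiv e
  haveI : IsNoetherianRing (A ⊗[E] κ) := isNoetherianRing_of_ringEquiv _ e
  exact isCIRing_fraction_tensor (A := A) κ hA

/-- Base change along an algebra which is a complete intersection over every field. -/
theorem isCIRing_baseChange {E F T : Type u} [Field E] [CommRing F] [Algebra E F] [Algebra.EssFiniteType E F]
    (hF : ∀ (κ : Type u) [Field κ] [Algebra E κ], IsCIRing (κ ⊗[E] F)) [CommRing T] [Algebra E T]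
    [IsNoetherianRing T] (hT : IsCIRing T) : IsCIRing (T ⊗[E] F) := by
  haveI : IsNoetherianRing (T ⊗[E] F) := Algebra.EssFiniteType.isNoetherianRing T _
  refine isCIRing_of_fibres hT fun Q _ => ?_
  let e : Q.Fiber (T ⊗[E] F) ≃+* Q.ResidueField ⊗[E] F :=
    (Algebra.TensorProduct.cancelBaseChange E T T Q.ResidueField F).toRingEquiv
  haveI : IsNoetherianRing (Q.ResidueField ⊗[E] F) := Algebra.EssFiniteType.isNoetherianRing Q.ResidueField _
  haveI : IsNoetherianRing (Q.Fiber (T ⊗[E] F)) := isNoetherianRing_of_ringEquiv _ e.symm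
  exact (hF Q.ResidueField).of_ringEquiv e.symm

/-- Complete intersection over every field is transitive in towers. -/
theorem isCIRing_tower {k E F : Type u} [Field k] [Field E] [Field F] [Algebra k E] [Algebra E F] [Algebra k F]
    [IsScalarTower k E F] [Algebra.EssFiniteType k E] [Algebra.EssFiniteType E F]
    (hE : ∀ (κ : Type u) [Field κ] [Algebra k κ], IsCIRing (κ ⊗[k] E))
    (hF : ∀ (κ : Type u) [Field κ] [Algebra E κ], IsCIRing (κ ⊗[E] F))
    (κ : Type u) [Field κ] [Algebra k κ] : IsCIRing (κ ⊗[k] F) := by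
  haveI : IsNoetherianRing (κ ⊗[k] E) := Algebra.EssFiniteType.isNoetherianRing κ _
  haveI : IsNoetherianRing (E ⊗[k] κ) :=
    isNoetherianRing_of_ringEquiv _ (Algebra.TensorProduct.comm k κ E).toRingEquiv
  have h1 : IsCIRing ((E ⊗[k] κ) ⊗[E] F) :=
    isCIRing_baseChange hF ((hE κ).of_ringEquiv (Algebra.TensorProduct.comm k κ E).toRingEquiv)
  let e : (E ⊗[k] κ) ⊗[E] F ≃+* κ ⊗[k] F :=
    (Algebra.TensorProduct.comm E (E ⊗[k] κ) F).toRingEquiv.trans
      ((Algebra.TensorProduct.cancelBaseChange k E E F κ).toRingEquiv.trans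
        (Algebra.TensorProduct.comm k F κ).toRingEquiv)
  haveI : IsNoetherianRing ((E ⊗[k] κ) ⊗[E] F) := Algebra.EssFiniteType.isNoetherianRing (E ⊗[k] κ) _
  haveI : IsNoetherianRing (κ ⊗[k] F) := isNoetherianRing_of_ringEquiv _ e
  exact h1.of_ringEquiv e

/-- Finitely generated field extensions are complete intersections over every field. -/
theorem isCIRing_adjoin {k K : Type u} [Field k] [Field K] [Algebra k K] (s : Finset K) :
    Algebra.EssFiniteType k (IntermediateField.adjoin k (s : Set K)) ∧
      ∀ (κ : Type u) [Field κ] [Algebra k κ], IsCIRing (κ ⊗[k] IntermediateField.adjoin k (s : Set K)) := by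
  classical
  refine IntermediateField.induction_on_adjoin_finset s (fun E : IntermediateField k K => Algebra.EssFiniteType k E ∧
      ∀ (κ : Type u) [Field κ] [Algebra k κ], IsCIRing (κ ⊗[k] E)) ?_ ?_
  · refine ⟨?_, fun κ _ _ => ?_⟩
    · exact Algebra.EssFiniteType.of_surjective (S := k) (IntermediateField.botEquiv k K).symm.toAlgHom
        (IntermediateField.botEquiv k K).symm.surjective
    · let e : κ ≃+* κ ⊗[k] (⊥ : IntermediateField k K) :=
        (Algebra.TensorProduct.rid k k κ).symm.toRingEquiv.trans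
          (Algebra.TensorProduct.congr (AlgEquiv.refl : κ ≃ₐ[k] κ) (IntermediateField.botEquiv k K).symm).toRingEquiv
      haveI : IsNoetherianRing (κ ⊗[k] (⊥ : IntermediateField k K)) := isNoetherianRing_of_ringEquiv _ e
      exact (isCIRing_of_isRegularRing κ).of_ringEquiv e
  · rintro E x - ⟨hE1, hE2⟩
    have hess : Algebra.EssFiniteType E E⟮x⟯ :=
      IntermediateField.essFiniteType_iff.mpr ⟨{x}, by simp⟩
    have hgen : (E⟮IntermediateField.AdjoinSimple.gen E x⟯ : IntermediateField E E⟮x⟯) = ⊤ :=
      eq_top_iff.mpr fun z _ => by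
        obtain ⟨r, t, hrt⟩ := (IntermediateField.mem_adjoin_simple_iff (α := x) E z.1).mp z.2
        refine (IntermediateField.mem_adjoin_simple_iff E z).mpr ⟨r, t, Subtype.ext ?_⟩
        rw [hrt]
        simp
    exact ⟨Algebra.EssFiniteType.comp k E E⟮x⟯,
      fun κ _ _ => isCIRing_tower (E := E) hE2 (fun κ' _ _ => isCIRing_simple _ hgen κ') κ⟩

/-- CI rings stay CI after a finitely generated field extension. -/
theorem isCIRing_tensor_fg {k K R : Type u} [Field k] [Field K] [Algebra k K]
    (hK : ∃ s : Finset K, IntermediateField.adjoin k (s : Set K) = ⊤) [CommRing R] [Algebra k R]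
    [IsNoetherianRing R] (hR : IsCIRing R) : IsNoetherianRing (K ⊗[k] R) ∧ IsCIRing (K ⊗[k] R) := by
  obtain ⟨s, hs⟩ := hK
  obtain ⟨hess, h⟩ := isCIRing_adjoin (k := k) s
  rw [hs] at hess h
  let ε := IntermediateField.topEquiv (F := k) (E := K)
  haveI : Algebra.EssFiniteType k K := Algebra.EssFiniteType.of_surjective ε.toAlgHom ε.surjective
  haveI : IsNoetherianRing (R ⊗[k] K) := Algebra.EssFiniteType.isNoetherianRing R _
  haveI : IsNoetherianRing (K ⊗[k] R) :=
    isNoetherianRing_of_ringEquiv _ (Algebra.TensorProduct.comm k R K).toRingEquiv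
  refine ⟨inferInstance, (isCIRing_baseChange (fun κ _ _ => ?_) hR).of_ringEquiv
    (Algebra.TensorProduct.comm k R K).toRingEquiv⟩
  haveI : IsNoetherianRing (κ ⊗[k] K) := Algebra.EssFiniteType.isNoetherianRing κ _
  haveI : IsNoetherianRing (κ ⊗[k] (⊤ : IntermediateField k K)) :=
    isNoetherianRing_of_ringEquiv (κ ⊗[k] K) (Algebra.TensorProduct.congr (AlgEquiv.refl : κ ≃ₐ[k] κ) ε.symm).toRingEquiv
  exact (h κ).of_ringEquiv (Algebra.TensorProduct.congr (AlgEquiv.refl : κ ≃ₐ[k] κ) ε).toRingEquiv

end GrothLib.CIPres
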