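import Groth.Agent.Lib.CIPres.Avramov

/-!
# Geometric depth along flat unramified local homomorphisms
-/

set_option autoImplicit false
set_option linter.style.haveILetI false

universe u

open IsLocalRing RingTheory.Sequence

namespace GrothLib.CIPres

variable {A B : Type u} [CommRing A] [CommRing B] [Algebra A B] [IsLocalRing A] [IsLocalRing B]
  [IsNoetherianRing A] [IsNoetherianRing B] [IsLocalHom (algebraMap A B)] [Module.Flat A B]
  [IsAdicComplete (maximalIdeal A) A] [IsAdicComplete (maximalIdeal B) B]

/-- Dimension minus number of relations is insensitive to flat unramified extensions, complete case. -/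
theorem exists_presentations_of_flat (hmax : (maximalIdeal A).map (algebraMap A B) = maximalIdeal B) :
    ∃ (R S : Type u) (_ : CommRing R) (_ : CommRing S) (_ : IsRegularLocalRing R) (_ : IsRegularLocalRing S)
      (φ : R →+* A) (ψ : S →+* B), Function.Surjective φ ∧ Function.Surjective ψ ∧
        (maximalIdeal S).spanFinrank + (RingHom.ker φ).spanFinrank =
          (maximalIdeal R).spanFinrank + (RingHom.ker ψ).spanFinrank := by
  obtain ⟨R, S, _, _, _, _, _, _, _, _, _, hfib, φ, ψ, hφ, hψ, hcomp⟩ := exists_factorization (A := A) (B := B)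
  refine ⟨R, S, inferInstance, inferInstance, inferInstance, inferInstance, φ, ψ, hφ, hψ, ?_⟩
  set I := RingHom.ker φ
  set J := RingHom.ker ψ
  set M := (maximalIdeal R).map (algebraMap R S)
  let eR : R ⧸ I ≃+* A := RingHom.quotientKerEquivOfSurjective hφ
  let eS : S ⧸ J ≃+* B := RingHom.quotientKerEquivOfSurjective hψ
  have hIJ : I ≤ J.comap (algebraMap R S) := fun r hr => by
    show ψ (algebraMap R S r) = 0
    rw [← RingHom.comp_apply, hcomp, RingHom.comp_apply, RingHom.mem_ker.mp hr, map_zero]
  letI : Algebra (R ⧸ I) (S ⧸ J) := (Ideal.quotientMap J (algebraMap R S) hIJ).toAlgebra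
  haveI : IsScalarTower R (R ⧸ I) (S ⧸ J) := IsScalarTower.of_algebraMap_eq fun _ => rfl
  haveI : Module.Flat (R ⧸ I) (S ⧸ J) := by
    refine RingHom.flat_algebraMap_iff.mp ?_
    have h : algebraMap (R ⧸ I) (S ⧸ J) = eS.symm.toRingHom.comp ((algebraMap A B).comp eR.toRingHom) := by
      refine Ideal.Quotient.ringHom_ext (RingHom.ext fun r => ?_)
      have h1 : eS (Ideal.Quotient.mk J (algebraMap R S r)) = algebraMap A B (eR (Ideal.Quotient.mk I r)) := by
        show ψ (algebraMap R S r) = algebraMap A B (φ r)
        rw [← RingHom.comp_apply, hcomp, RingHom.comp_apply]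
      show Ideal.Quotient.mk J (algebraMap R S r) = eS.symm (algebraMap A B (eR (Ideal.Quotient.mk I r)))
      rw [← h1, eS.symm_apply_apply]
    rw [h]
    exact RingHom.Flat.comp (RingHom.Flat.comp (RingHom.Flat.of_bijective eR.bijective)
      (RingHom.flat_algebraMap_iff.mpr ‹_›)) (RingHom.Flat.of_bijective eS.symm.bijective)
  have hm : (maximalIdeal R).map φ = maximalIdeal A := IsLocalRing.map_maximalIdeal_of_surjective φ hφ
  have hM : M.map ψ = maximalIdeal B := by
    rw [Ideal.map_map, hcomp, ← Ideal.map_map, hm, hmax]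
  -- the kernel maps onto the maximal ideal of the regular fibre
  have hJ₀ : J.map (Ideal.Quotient.mk M) = maximalIdeal (S ⧸ M) := by
    rw [← GrothLib.RegLoc.map_maximalIdeal_quotient M]
    refine le_antisymm (Ideal.map_mono (le_maximalIdeal (RingHom.ker_ne_top ψ))) ?_
    have h : maximalIdeal S ≤ M ⊔ J := by
      rw [← comap_maximalIdeal ψ hψ, ← hM, Ideal.comap_map_of_surjective ψ hψ, ← RingHom.ker_eq_comap_bot]
    refine (Ideal.map_mono h).trans ?_
    rw [Ideal.map_sup, Ideal.map_quotient_self, bot_sup_eq]
  have hle := spanFinrank_le_add I J (RingHom.ker_ne_top ψ)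
  have hge := add_spanFinrank_le I J (RingHom.ker_ne_top ψ) (RingHom.ker_ne_top φ)
  change J.spanFinrank ≤ I.spanFinrank + (J.map (Ideal.Quotient.mk M)).spanFinrank at hle
  change I.spanFinrank + (J.map (Ideal.Quotient.mk M)).spanFinrank ≤ J.spanFinrank at hge
  rw [hJ₀] at hle hge
  have hdim := GrothLib.CMMor6.ringKrullDim_eq_add (A := R) (B := S)
  change ringKrullDim S = ringKrullDim R + ringKrullDim (S ⧸ M) at hdim
  rw [← IsRegularLocalRing.spanFinrank_maximalIdeal (R := R),
    ← IsRegularLocalRing.spanFinrank_maximalIdeal (R := S),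
    ← IsRegularLocalRing.spanFinrank_maximalIdeal (R := S ⧸ M)] at hdim
  norm_cast at hdim
  omega

end GrothLib.CIPres
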