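import Groth.Agent.Lib.CIPres.FibrePd

/-!
# Finite tor dimension from finitely many residual Tor modules
-/

set_option autoImplicit false

universe u

open CategoryTheory TensorProduct IsLocalRing GrothLib.Serre GrothLib.Flatness GrothLib.RelLift

namespace GrothLib.CIPres

/-- The high cokernel of a flat resolution has no `Tor₁` against a cyclic module where `Tor` vanishes. -/
theorem good_cokernel_single {R : Type u} [CommRing R] {S : Type u} [AddCommGroup S] [Module R S]
    (F : ℕ → Type u) [∀ i, AddCommGroup (F i)] [∀ i, Module R (F i)]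
    [∀ i, Module.Flat R (F i)] (d : ∀ i, F (i + 1) →ₗ[R] F i) (ε : F 0 →ₗ[R] S)
    (hε : Function.Surjective ε) (h0 : Function.Exact (d 0) ε)
    (hd : ∀ i, Function.Exact (d (i + 1)) (d i)) (I : Ideal R) (m : ℕ)
    (hz : Subsingleton (DRing.Tor R (m + 1) S (R ⧸ I))) :
    Good R (F m ⧸ LinearMap.range (d m)) (R ⧸ I) := by
  let P := projectiveResolution (ModuleCat.of R (R ⧸ I))
  haveI hP : ∀ j, Module.Projective R (P.complex.X j) := fun j =>
    (IsProjective.iff_projective _).2 (P.projective j)
  let δ : ∀ j, P.complex.X (j + 1) →ₗ[R] P.complex.X j := fun j => (P.complex.d (j + 1) j).hom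
  let q : P.complex.X 0 →ₗ[R] R ⧸ I := (P.π.f 0).hom
  have hq : Function.Surjective q :=
    (ModuleCat.epi_iff_surjective _).1 (inferInstance : Epi (P.π.f 0))
  have hδq : Function.Exact (δ 0) q := fun x =>
    ⟨fun hx => (ShortComplex.moduleCat_exact_iff _).1 P.exact₀ x hx, by
      rintro ⟨y, rfl⟩
      exact congrArg (fun f => f.hom y) P.complex_d_comp_π_f_zero⟩
  have hδ : ∀ j, Function.Exact (δ (j + 1)) (δ j) := fun j x => ⟨fun hx => by
    have h1 := P.complex_exactAt_succ j
    rw [HomologicalComplex.exactAt_iff' _ (j + 2) (j + 1) j (by simp) (by simp),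
      ShortComplex.moduleCat_exact_iff] at h1
    exact h1 x hx, by
    rintro ⟨y, rfl⟩
    exact congrArg (fun f => f.hom y) (P.complex.d_comp_d (j + 2) (j + 1) j)⟩
  -- cokernels
  let C : ℕ → Type u := fun j => F j ⧸ LinearMap.range (d j)
  let N : ℕ → Type u := fun j => P.complex.X j ⧸ LinearMap.range (δ j)
  have top : Good R S (N m) := by
    let G := (MonoidalCategory.tensoringLeft (ModuleCat.{u} R)).obj (ModuleCat.of R S)
    let Cx := (G.mapHomologicalComplex (ComplexShape.down ℕ)).obj P.complex
    have e : ((CategoryTheory.Tor (ModuleCat.{u} R) (m + 1)).obj (ModuleCat.of R S)).obj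
        (ModuleCat.of R (R ⧸ I)) ≅ Cx.homology (m + 1) := P.isoLeftDerivedObj G (m + 1)
    have hzero : Limits.IsZero (Cx.homology (m + 1)) :=
      (@ModuleCat.isZero_of_subsingleton R _ _ hz).of_iso e.symm
    rw [← HomologicalComplex.exactAt_iff_isZero_homology,
      HomologicalComplex.exactAt_iff' Cx (m + 2) (m + 1) m (by simp) (by simp),
      ShortComplex.moduleCat_exact_iff] at hzero
    have hzero' : ∀ x : S ⊗[R] P.complex.X (m + 1), (δ m).lTensor S x = 0 →
        ∃ y, (δ (m + 1)).lTensor S y = x := hzero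
    let K := LinearMap.range (δ m)
    refine Good.of_presentation K.subtype K.mkQ K.injective_subtype K.mkQ_surjective
      (LinearMap.exact_subtype_mkQ K) Good.of_projective ((injective_iff_map_eq_zero _).2 fun y hy => ?_)
    obtain ⟨x, rfl⟩ := LinearMap.lTensor_surjective S (δ m).surjective_rangeRestrict y
    rw [← LinearMap.lTensor_comp_apply] at hy
    obtain ⟨z, rfl⟩ := hzero' x hy
    rw [← LinearMap.lTensor_comp_apply,
      show (δ m).rangeRestrict ∘ₗ δ (m + 1) = 0 from
        LinearMap.ext fun w => Subtype.ext ((hδ m).apply_apply_eq_zero w),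
      LinearMap.lTensor_zero, LinearMap.zero_apply]
  have zero : Good R (C 0) (N m) := by
    let e : C 0 ≃ₗ[R] S := (Submodule.quotEquivOfEq _ _ (LinearMap.exact_iff.mp h0).symm).trans
      (ε.quotKerEquivOfSurjective hε)
    intro A B _ _ _ _ i p hi hp hip x y hxy
    refine (LinearEquiv.rTensor A e).injective (top A B i p hi hp hip ?_)
    have hcomm : i.lTensor S ∘ₗ e.toLinearMap.rTensor A = e.toLinearMap.rTensor B ∘ₗ i.lTensor (C 0) := by
      rw [LinearMap.lTensor_comp_rTensor, LinearMap.rTensor_comp_lTensor]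
    exact (LinearMap.congr_fun hcomm x).trans ((congrArg _ hxy).trans (LinearMap.congr_fun hcomm y).symm)
  have step : ∀ j, j ≤ m → Good R (C j) (N (m - j)) := by
    intro j
    induction j with
    | zero => exact fun _ => zero
    | succ j ih =>
      intro hj
      obtain ⟨r, hr⟩ : ∃ r, m - j = r + 1 := ⟨m - (j + 1), by omega⟩
      have hr' : m - (j + 1) = r := by omega
      have h1 := ih (by omega)
      rw [hr] at h1
      rw [hr']
      refine good_shift ((LinearMap.range (d (j + 1))).liftQ (d j) ?_) (LinearMap.range (d j)).mkQ ?_ ?_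
        (Submodule.mkQ_surjective _) ((LinearMap.range (δ (r + 1))).liftQ (δ r) ?_)
        (LinearMap.range (δ r)).mkQ ?_ ?_ (Submodule.mkQ_surjective _) h1
      · exact (LinearMap.exact_iff.mp (hd j)).ge
      · rw [← LinearMap.ker_eq_bot]
        exact Submodule.ker_liftQ_eq_bot _ _ _ (LinearMap.exact_iff.mp (hd j)).le
      · rw [LinearMap.exact_iff, Submodule.ker_mkQ, Submodule.range_liftQ]
      · exact (LinearMap.exact_iff.mp (hδ r)).ge
      · rw [← LinearMap.ker_eq_bot]
        exact Submodule.ker_liftQ_eq_bot _ _ _ (LinearMap.exact_iff.mp (hδ r)).le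
      · rw [LinearMap.exact_iff, Submodule.ker_mkQ, Submodule.range_liftQ]
  have hm0 := step m le_rfl
  rw [Nat.sub_self] at hm0
  exact Good.of_equiv ((Submodule.quotEquivOfEq _ _ (LinearMap.exact_iff.mp hδq).symm).trans
    (q.quotKerEquivOfSurjective hq)) hm0

/-- Finitely many residual Tor modules over the base give finite tor dimension over a flat local algebra with
regular closed fibre. -/
theorem hasFiniteTorDim_of_tor_residue {A T : Type u} [CommRing A] [CommRing T] [Algebra A T] [IsLocalRing A]
    [IsNoetherianRing A] [IsLocalRing T] [IsNoetherianRing T] [IsLocalHom (algebraMap A T)] [Module.Flat A T]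
    [IsRegularLocalRing (T ⧸ (maximalIdeal A).map (algebraMap A T))]
    {M : Type u} [AddCommGroup M] [Module T M] [Module A M] [IsScalarTower A T M]
    (ε : (Fin 1 → T) →ₗ[T] M) (hε : Function.Surjective ε)
    (h : Set.Finite {p : ℕ | ¬Subsingleton (DRing.Tor A p M (A ⧸ maximalIdeal A))}) :
    DRing.HasFiniteTorDim T M := by
  obtain ⟨n, hn⟩ := h.bddAbove
  obtain ⟨rk, hrk, d, hd0, hd⟩ := GrothLib.RelLift.exists_free_resolution ε
  let ε' : (Fin (rk 0) → T) →ₗ[T] M := ε ∘ₗ LinearMap.funLeft T T (Fin.cast hrk.symm)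
  have hε' : Function.Surjective ε' := fun s => by
    obtain ⟨x, rfl⟩ := hε s
    exact ⟨fun i => x (Fin.cast hrk i), congrArg ε (funext fun j => rfl)⟩
  have h0 : Function.Exact (d 0) ε' := fun x => hd0 x
  let C : ℕ → Type u := fun i => (Fin (rk i) → T) ⧸ LinearMap.range (d i)
  haveI : ∀ i, Module.Flat A (Fin (rk i) → T) := fun i => Module.Flat.trans A T _
  have hgood : Good A ((Fin (rk n) → T) ⧸ LinearMap.range ((d n).restrictScalars A)) (A ⧸ maximalIdeal A) :=
    good_cokernel_single (fun i => Fin (rk i) → T) (fun i => (d i).restrictScalars A) (ε'.restrictScalars A)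
      hε' h0 hd (maximalIdeal A) n (by
        by_contra hne
        exact absurd (hn hne) (by omega))
  let eC : ((Fin (rk n) → T) ⧸ LinearMap.range ((d n).restrictScalars A)) ≃ₗ[A] C n :=
    (Submodule.quotEquivOfEq _ _ (by ext; rfl)).trans
      (Submodule.Quotient.restrictScalarsEquiv A (LinearMap.range (d n)))
  haveI : Module.Flat A (C n) := by
    refine GrothLib.Flatness.flat_of_localCriterion (S := T) (maximalIdeal A)
      ((((local_hom_TFAE (algebraMap A T)).out 0 2 rfl rfl).mp inferInstance).trans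
        (IsLocalRing.maximalIdeal_le_jacobson _)) ?_ ?_
    · intro x y hxy
      refine (LinearEquiv.rTensor _ eC.symm).injective (hgood _ _ (maximalIdeal A).subtype (maximalIdeal A).mkQ
        (maximalIdeal A).injective_subtype (Submodule.mkQ_surjective _) (LinearMap.exact_subtype_mkQ _) ?_)
      have hcomm : (maximalIdeal A).subtype.lTensor _ ∘ₗ eC.symm.toLinearMap.rTensor _ =
          eC.symm.toLinearMap.rTensor A ∘ₗ (maximalIdeal A).subtype.lTensor (C n) := by
        rw [LinearMap.lTensor_comp_rTensor, LinearMap.rTensor_comp_lTensor]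
      exact (LinearMap.congr_fun hcomm x).trans ((congrArg _ hxy).trans (LinearMap.congr_fun hcomm y).symm)
    · letI := Ideal.Quotient.field (maximalIdeal A)
      infer_instance
  obtain ⟨e, he⟩ : ∃ e, PdLE T (C n) e := by
    obtain ⟨e, he⟩ : ∃ e : ℕ, ringKrullDim (T ⧸ (maximalIdeal A).map (algebraMap A T)) = e :=
      ⟨_, (IsRegularLocalRing.spanFinrank_maximalIdeal (R := T ⧸ (maximalIdeal A).map (algebraMap A T))).symm⟩
    exact ⟨e, pdLE_of_closedFibre (A := A) e (C n) (pdLE_of_isRegularLocalRing _ e he _)⟩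
  have key : ∀ j i, i + j = n → PdLE T (C i) (e + j) := by
    intro j
    induction j with
    | zero =>
      intro i hi
      obtain rfl : i = n := hi
      exact he
    | succ j ih =>
      intro i hi
      show PdLE T ((Fin (rk i) → T) ⧸ LinearMap.range (d i)) (e + j + 1)
      rw [pdLE_succ_iff (LinearMap.range (d i)).mkQ (Submodule.mkQ_surjective _) (e + j)]
      refine (pdLE_congr ?_ (e + j)).mp (ih (i + 1) (by omega))
      exact (Submodule.quotEquivOfEq _ _ (LinearMap.exact_iff.mp (hd i)).symm) ≪≫ₗ
        (d i).quotKerEquivRange ≪≫ₗ LinearEquiv.ofEq _ _ (Submodule.ker_mkQ _).symm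
  have hM : PdLE T M (e + n) := (pdLE_congr ((Submodule.quotEquivOfEq _ _ (LinearMap.exact_iff.mp h0).symm).trans
    (ε'.quotKerEquivOfSurjective hε')) (e + n)).mp (key n 0 (zero_add n))
  exact ⟨e + n, (GrothLib.KF.hasTorDimLE_iff M (e + n)).2
    (GrothLib.DR.hasTorAmplitudeIn_of_projectiveDimension (e + n) M hM)⟩

/-- Finite tor dimension over the base gives finitely many residual Tor modules. -/
theorem finite_tor_residue {A M : Type u} [CommRing A] [IsLocalRing A] [AddCommGroup M] [Module A M]
    (h : DRing.HasFiniteTorDim A M) :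
    Set.Finite {p : ℕ | ¬Subsingleton (DRing.Tor A p M (A ⧸ maximalIdeal A))} := by
  obtain ⟨n, hn⟩ := h
  exact (Set.finite_Iic n).subset fun p hp => Set.mem_Iic.mpr (not_lt.mp fun hlt => hp (hn _ p hlt))

end GrothLib.CIPres
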